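import Cfsg.Agent.Mrg.Omega.OM.Swap.Two


/-!
# THEOREM 4F (#20067): the situation for one index

`F` is a minimal parabolic over its Sylow 2-subgroup `T`, `U = V_j ≤ O₂(F)` the natural module of `SL₂(4)` in coordinates
`e : G → K × K`, `Z = Z_j = {v | (e v).2 = 0}`, `u = (1, 0)`; `T` acts by the maps
`Lin l : (x, y) ↦ (x + l y, y)` and `Sem l : (x, y) ↦ (x² + l y², y²)`.
-/

set_option autoImplicit false

namespace Cfsg.Agent.Omega.OM.FourF

open Subgroup Cfsg Cfsg.Agent.ZN Cfsg.Agent.ZN.ChoiceBase Cfsg.Agent.ZN.ChoiceSit Cfsg.Agent.Omega.NoFF.Basic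
open Cfsg.Agent.MinSimple.MinParabolic (IsMinPar)

universe u

/-- `t` acts as `(x, y) ↦ (x + l y, y)` on `U` -/
def Lin {K : Type} [Field K] {G : Type u} [Group G] (e : G → K × K) (U : Subgroup G) (l : K) (t : G) : Prop :=
  ∀ v ∈ U, e (t * v * t⁻¹) = ((e v).1 + l * (e v).2, (e v).2)

/-- `t` acts as `(x, y) ↦ (x² + l y², y²)` on `U` -/
def Sem {K : Type} [Field K] {G : Type u} [Group G] (e : G → K × K) (U : Subgroup G) (l : K) (t : G) : Prop :=
  ∀ v ∈ U, e (t * v * t⁻¹) = ((e v).1 ^ 2 + l * (e v).2 ^ 2, (e v).2 ^ 2)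

/-- The coordinates of `U`. -/
structure Crd (K : Type) [Field K] {G : Type u} [Group G] (T U Z : Subgroup G) (u : G) (e : G → K × K) : Prop where
  cardK : Nat.card K = 4
  TU : T ≤ normalizer (U : Set G)
  Uc : ∀ v ∈ U, ∀ w ∈ U, v * w = w * v
  U2 : ∀ v ∈ U, v * v = 1
  uU : u ∈ U
  eu : e u = (1, 0)
  ZU : Z ≤ U
  mul : ∀ v ∈ U, ∀ w ∈ U, e (v * w) = e v + e w
  inj : ∀ v ∈ U, e v = 0 → v = 1
  surj : ∀ x, ∃ v ∈ U, e v = x
  memZ : ∀ v ∈ U, v ∈ Z ↔ (e v).2 = 0
  act : ∀ t ∈ T, ∃ l : K, Lin e U l t ∨ Sem e U l t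

/-- The situation for one index. -/
structure One (K : Type) [Field K] {G : Type u} [Group G] (F T U Z : Subgroup G) (u : G) (e : G → K × K) : Prop
    extends Crd K T U Z u e where
  syl : Syl T F
  par : IsMinPar T F
  UO : U ≤ o2 F
  comm : ∀ x ∈ V U F, ∀ y ∈ V U F, x * y = y * x
  sq : ∀ x ∈ V U F, x * x = 1
  uF : ∀ f ∈ F, f * u = u * f
  /-- a member of `𝒜(T)` acts trivially or as `{Lin l}` -/
  full : ∀ A ∈ AA T, A ≤ centralizer (U : Set G) ∨ ((∀ a ∈ A, ∃ l, Lin e U l a) ∧ ∀ l : K, ∃ a ∈ A, Lin e U l a)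
  ex : ∃ A ∈ AA T, ¬ A ≤ centralizer (U : Set G)
  nJ : F ⊓ normalizer (jj T : Set G) ≤ normalizer (Z : Set G)

/-! ### The field of order 4 -/

section field

variable {K : Type} [Field K]

omit [Field K] in
theorem finite_of_card (h : Nat.card K = 4) : Finite K := Nat.finite_of_card_ne_zero (by rw [h]; norm_num)

theorem pow_four (h : Nat.card K = 4) (x : K) : x ^ 4 = x := by
  have := finite_of_card h
  have : Fintype K := Fintype.ofFinite K
  have h1 := FiniteField.pow_card x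
  rwa [← Nat.card_eq_fintype_card, h] at h1

theorem two_eq (h : Nat.card K = 4) (x : K) : x + x = 0 := by
  have h1 : (2 : K) ^ 4 = 2 := pow_four h 2
  have h3 : (3 : K) ^ 4 = 3 := pow_four h 3
  have h2 : (14 : K) = 0 := by linear_combination h1
  have h4 : (78 : K) = 0 := by linear_combination h3
  have h5 : (2 : K) = 0 := by linear_combination (-11) * h2 + 2 * h4
  linear_combination x * h5

theorem sq_add (h : Nat.card K = 4) (x y : K) : (x + y) ^ 2 = x ^ 2 + y ^ 2 := by
  have h1 := two_eq h (x * y)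
  linear_combination h1

theorem sq_sq (h : Nat.card K = 4) (x : K) : (x ^ 2) ^ 2 = x := by
  rw [← pow_mul]; exact pow_four h x

/-- `x² + x` is `0` or `1` -/
theorem tr_cases (h : Nat.card K = 4) (x : K) : x ^ 2 + x = 0 ∨ x ^ 2 + x = 1 := by
  have h1 : (x ^ 2 + x) * (x ^ 2 + x - 1) = 0 := by
    have h2 := pow_four h x
    have h3 := two_eq h (x ^ 3)
    linear_combination h2 + h3
  rcases mul_eq_zero.1 h1 with h2 | h2
  · exact Or.inl h2
  · exact Or.inr (sub_eq_zero.1 h2)

theorem eq_of_sq_eq (x : K) (h : x ^ 2 = x) : x = 0 ∨ x = 1 := by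
  have h1 : x * (x - 1) = 0 := by linear_combination h
  rcases mul_eq_zero.1 h1 with h2 | h2
  · exact Or.inl h2
  · exact Or.inr (sub_eq_zero.1 h2)

/-- some element is not in the prime field -/
theorem exists_w (h : Nat.card K = 4) : ∃ w : K, w ^ 2 = w + 1 := by
  have := finite_of_card h
  classical
  by_contra hcon
  push Not at hcon
  have h1 : ∀ x : K, x = 0 ∨ x = 1 := by
    intro x
    rcases tr_cases h x with h2 | h2
    · refine eq_of_sq_eq x ?_
      have := two_eq h x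
      linear_combination h2 - this
    · exfalso
      apply hcon x
      have := two_eq h x
      linear_combination h2 - this
  have : Fintype K := Fintype.ofFinite K
  have h2 : Fintype.card K ≤ Fintype.card Bool := by
    refine Fintype.card_le_of_injective (fun x : K => decide (x = 0)) fun x y hxy => ?_
    have h3 : (x = 0) ↔ (y = 0) := by simpa using hxy
    rcases h1 x with hx | hx
    · rw [hx, h3.1 hx]
    · rcases h1 y with hy | hy
      · rw [hy, h3.2 hy]
      · rw [hx, hy]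
  rw [← Nat.card_eq_fintype_card, h] at h2
  simp at h2

end field

/-! ### The calculus of `Lin` and `Sem` -/

section rules

variable {K : Type} [Field K] {G : Type u} [Group G] {T U Z : Subgroup G} {u : G} {e : G → K × K}

namespace Crd

variable (h : Crd K T U Z u e)

include h

theorem e_one : e 1 = 0 := by
  have h1 := h.mul 1 (one_mem _) 1 (one_mem _)
  rw [mul_one] at h1
  exact left_eq_add.1 h1

theorem eq_of {v w : G} (hv : v ∈ U) (hw : w ∈ U) (hvw : e v = e w) : v = w := by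
  have h1 : e (v * w) = 0 := by
    rw [h.mul v hv w hw, hvw]
    exact Prod.ext (two_eq h.cardK _) (two_eq h.cardK _)
  have h2 := h.inj _ (mul_mem hv hw) h1
  calc v = v * (w * w) := by rw [h.U2 w hw, mul_one]
    _ = w := by rw [← mul_assoc, h2, one_mul]

theorem cn {t v : G} (ht : t ∈ T) (hv : v ∈ U) : t * v * t⁻¹ ∈ U := (mem_normalizer_iff.1 (h.TU ht) v).1 hv

theorem mul_LL {l m : K} {s t : G} (hs : Lin e U l s) (ht : Lin e U m t) (htT : t ∈ T) : Lin e U (l + m) (s * t) := by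
  intro v hv
  have h1 : s * t * v * (s * t)⁻¹ = s * (t * v * t⁻¹) * s⁻¹ := by group
  rw [h1, hs _ (h.cn htT hv), ht v hv]
  refine Prod.ext ?_ rfl
  simp only
  ring

theorem mul_SS {l m : K} {s t : G} (hs : Sem e U l s) (ht : Sem e U m t) (htT : t ∈ T) :
    Lin e U (l + m ^ 2) (s * t) := by
  intro v hv
  have h1 : s * t * v * (s * t)⁻¹ = s * (t * v * t⁻¹) * s⁻¹ := by group
  rw [h1, hs _ (h.cn htT hv), ht v hv]
  have h4 := pow_four h.cardK (e v).1
  have h5 := pow_four h.cardK (e v).2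
  have h6 := two_eq h.cardK ((e v).1 ^ 2 * (m * (e v).2 ^ 2))
  refine Prod.ext ?_ ?_
  · simp only
    linear_combination h4 + (m ^ 2 + l) * h5 + h6
  · simp only
    linear_combination h5

theorem mul_LS {l m : K} {s t : G} (hs : Lin e U l s) (ht : Sem e U m t) (htT : t ∈ T) : Sem e U (l + m) (s * t) := by
  intro v hv
  have h1 : s * t * v * (s * t)⁻¹ = s * (t * v * t⁻¹) * s⁻¹ := by group
  rw [h1, hs _ (h.cn htT hv), ht v hv]
  refine Prod.ext ?_ rfl
  simp only
  ring

theorem mul_SL {l m : K} {s t : G} (hs : Sem e U l s) (ht : Lin e U m t) (htT : t ∈ T) :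
    Sem e U (l + m ^ 2) (s * t) := by
  intro v hv
  have h1 : s * t * v * (s * t)⁻¹ = s * (t * v * t⁻¹) * s⁻¹ := by group
  rw [h1, hs _ (h.cn htT hv), ht v hv]
  have h6 := two_eq h.cardK ((e v).1 * (m * (e v).2))
  refine Prod.ext ?_ rfl
  simp only
  linear_combination h6

theorem uniq_L {l m : K} {t : G} (h1 : Lin e U l t) (h2 : Lin e U m t) : l = m := by
  obtain ⟨v, hv, e1⟩ := h.surj (0, 1)
  have h3 := (h1 v hv).symm.trans (h2 v hv)
  rw [e1] at h3
  have h4 := congrArg Prod.fst h3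
  simpa using h4

theorem uniq_S {l m : K} {t : G} (h1 : Sem e U l t) (h2 : Sem e U m t) : l = m := by
  obtain ⟨v, hv, e1⟩ := h.surj (0, 1)
  have h3 := (h1 v hv).symm.trans (h2 v hv)
  rw [e1] at h3
  have h4 := congrArg Prod.fst h3
  simpa using h4

theorem not_LS {l m : K} {t : G} (h1 : Lin e U l t) (h2 : Sem e U m t) : False := by
  obtain ⟨w, hw⟩ := exists_w h.cardK
  obtain ⟨v, hv, e1⟩ := h.surj (w, 0)
  have h3 := (h1 v hv).symm.trans (h2 v hv)
  rw [e1] at h3
  have h4 := congrArg Prod.fst h3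
  simp only [mul_zero, add_zero, ne_eq, OfNat.ofNat_ne_zero, not_false_eq_true, zero_pow] at h4
  rw [hw] at h4
  exact one_ne_zero (left_eq_add.1 h4)

/-- `Lin 0` is the trivial action -/
theorem lin_zero {t : G} (ht : t ∈ T) : Lin e U 0 t ↔ t ∈ centralizer (U : Set G) := by
  rw [mem_centralizer_iff]
  constructor
  · intro h1 v hv
    have h2 := h1 v hv
    rw [zero_mul, add_zero] at h2
    exact (mul_inv_eq_iff_eq_mul.1 (h.eq_of (h.cn ht hv) hv h2)).symm
  · intro h1 v hv
    rw [← h1 v hv, mul_inv_cancel_right, zero_mul, add_zero]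

theorem inv_L {l : K} {t : G} (ht : t ∈ T) (h1 : Lin e U l t) : Lin e U l t⁻¹ := by
  obtain ⟨m, h2 | h2⟩ := h.act _ (inv_mem ht)
  · have h3 := h.mul_LL h1 h2 (inv_mem ht)
    rw [mul_inv_cancel] at h3
    have h4 : Lin e U 0 1 := (h.lin_zero (one_mem _)).2 (one_mem _)
    have h5 := h.uniq_L h3 h4
    have h6 : m = l := by
      have := two_eq h.cardK l
      linear_combination h5 - this
    rwa [h6] at h2
  · have h3 := h.mul_LS h1 h2 (inv_mem ht)
    rw [mul_inv_cancel] at h3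
    exact (h.not_LS ((h.lin_zero (one_mem _)).2 (one_mem _)) h3).elim

/-- equal actions -/
theorem LL_cent {l : K} {s t : G} (hs : s ∈ T) (ht : t ∈ T) (h1 : Lin e U l s) (h2 : Lin e U l t) :
    s⁻¹ * t ∈ centralizer (U : Set G) := by
  rw [← h.lin_zero (mul_mem (inv_mem hs) ht)]
  have h3 := h.mul_LL (h.inv_L hs h1) h2 ht
  rwa [two_eq h.cardK] at h3

theorem SS_cent {l : K} {s t : G} (hs : s ∈ T) (ht : t ∈ T) (h1 : Sem e U l s) (h2 : Sem e U l t) :
    s⁻¹ * t ∈ centralizer (U : Set G) := by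
  rw [mem_centralizer_iff]
  intro v hv
  have h3 : e (t * v * t⁻¹) = e (s * v * s⁻¹) := by rw [h1 v hv, h2 v hv]
  have h4 := h.eq_of (h.cn ht hv) (h.cn hs hv) h3
  calc v * (s⁻¹ * t) = s⁻¹ * (s * v * s⁻¹) * t := by group
    _ = s⁻¹ * (t * v * t⁻¹) * t := by rw [h4]
    _ = s⁻¹ * t * v := by group

theorem fix_L {l : K} {t v : G} (ht : t ∈ T) (h1 : Lin e U l t) (hl : l ≠ 0) (hv : v ∈ U) :
    t * v = v * t ↔ v ∈ Z := by
  rw [h.memZ v hv, ← mul_inv_eq_iff_eq_mul]
  constructor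
  · intro h2
    have h3 := h1 v hv
    rw [h2] at h3
    have h4 := congrArg Prod.fst h3
    simp only at h4
    have h5 : l * (e v).2 = 0 := by linear_combination -h4
    exact (mul_eq_zero.1 h5).resolve_left hl
  · intro h2
    refine h.eq_of (h.cn ht hv) hv ?_
    rw [h1 v hv, h2]
    refine Prod.ext ?_ h2.symm
    simp

theorem fix_S {l : K} {t z : G} (ht : t ∈ T) (h1 : Sem e U l t) (hz : z ∈ Z) :
    t * z = z * t ↔ (e z).1 ^ 2 = (e z).1 := by
  have hzU := h.ZU hz
  have hz2 := (h.memZ z hzU).1 hz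
  rw [← mul_inv_eq_iff_eq_mul]
  constructor
  · intro h2
    have h3 := h1 z hzU
    rw [h2, hz2] at h3
    have h4 := congrArg Prod.fst h3
    simp only at h4
    linear_combination -h4
  · intro h2
    refine h.eq_of (h.cn ht hzU) hzU ?_
    rw [h1 z hzU, hz2]
    refine Prod.ext ?_ ?_
    · simp only
      linear_combination h2
    · simp [hz2]

end Crd

end rules

end Cfsg.Agent.Omega.OM.FourF
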