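import Cfsg.Agent.Mrg.Omega.OM.FourF.K
import Cfsg.Agent.Mrg.Omega.OM.YThm.TwoDec
import Cfsg.Agent.Mrg.Omega.OM.FourF.Fam
import Cfsg.Agent.Mrg.Omega.OM.FourF.Mod
import Cfsg.Agent.Mrg.Omega.OM.FourF.Def
import Cfsg.Agent.Mrg.Omega.OM.Swap.Plug
import Cfsg.Agent.Mrg.Omega.OM.Swap.Two
import Cfsg.Agent.ZN.CaseTwo
import Cfsg.Agent.Mrg.Omega.OM.Swap.Loc

section


/-!
# THEOREM 4F (#20067), (1): the uniserial case, for one index

If some `c ∈ O = O₂(F)` acts as `Sem l` with `l` not in the prime field, then `F` normalises `Z`:  `One.F_le_Z`.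
-/

set_option autoImplicit false

namespace Cfsg.Agent.Omega.OM.FourF

open Subgroup Cfsg Cfsg.Agent.ZN Cfsg.Agent.ZN.ChoiceBase Cfsg.Agent.ZN.ChoiceSit Cfsg.Agent.Omega.NoFF.Basic
  Cfsg.Agent.Omega.OmThm Cfsg.Agent.Omega.OM.Swap Cfsg.Agent.Omega.OM.YThm
open Cfsg.Agent.Omega.OM.YThm.MW (vl vl_mem vl_mk vl_add vl_zero vl_inj vl_smul vl_sub ad mem_ad gp mem_gp vl_mem_gp upc
  mem_upc coe_mem_upc smul_ad_eq_iff smul_eq_iff)
open Cfsg.Agent.MinSimple.MinParabolic (IsMinPar)
open scoped Pointwise commutatorElement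

universe u

variable {K : Type} [Field K] {G : Type u} [Group G] {F T U Z : Subgroup G} {u : G} {e : G → K × K}

namespace Crd

section counts

variable (h : Crd K T U Z u e) {B : Subgroup G} (hBT : B ≤ T)

include h hBT

/-- two elements of the same type -/
theorem same {a b : G} (ha : a ∈ B) (hb : b ∈ B) {l m : K} (hl : Lin e U l a ∧ Lin e U m b ∨ Sem e U l a ∧ Sem e U m b)
    (hlm : l = m) : a⁻¹ * b ∈ centralizer (U : Set G) := by
  subst hlm
  rcases hl with ⟨h1, h2⟩ | ⟨h1, h2⟩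
  · exact h.LL_cent (hBT ha) (hBT hb) h1 h2
  · exact h.SS_cent (hBT ha) (hBT hb) h1 h2

theorem le_four (h0 : ∀ t ∈ B, ∀ l, Lin e U l t ∨ Sem e U l t → l ^ 2 = l) :
    (centralizer (U : Set G)).relIndex B ≤ 4 := by
  classical
  have h01 : ∀ b ∈ B, ∀ l, Lin e U l b ∨ Sem e U l b → l = 0 ∨ l = 1 := fun b hb l hl => eq_of_sq_eq l (h0 b hb l hl)
  have c1 := relIndex_le_card (H := centralizer (U : Set G)) (L := B)
    (fun t => ((decide (∃ l, Sem e U l t), decide (Lin e U 0 t ∨ Sem e U 0 t)) : Bool × Bool)) (fun a ha b hb hab => by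
      obtain ⟨e1, e2⟩ := Prod.ext_iff.1 hab
      simp only [decide_eq_decide] at e1 e2
      obtain ⟨l, hl⟩ := h.act a (hBT ha)
      obtain ⟨m, hm⟩ := h.act b (hBT hb)
      rcases hl with hl | hl <;> rcases hm with hm | hm
      · refine h.same hBT ha hb (Or.inl ⟨hl, hm⟩) ?_
        rcases h01 a ha l (Or.inl hl) with h4 | h4 <;> rcases h01 b hb m (Or.inl hm) with h5 | h5
        · rw [h4, h5]
        · rcases e2.1 (Or.inl (h4 ▸ hl)) with h6 | h6
          · exact absurd ((h.uniq_L hm h6).symm.trans h5) (by simp)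
          · exact (h.not_LS hm h6).elim
        · rcases e2.2 (Or.inl (h5 ▸ hm)) with h6 | h6
          · exact absurd ((h.uniq_L hl h6).symm.trans h4) (by simp)
          · exact (h.not_LS hl h6).elim
        · rw [h4, h5]
      · obtain ⟨n, hn⟩ := e1.2 ⟨m, hm⟩
        exact (h.not_LS hl hn).elim
      · obtain ⟨n, hn⟩ := e1.1 ⟨l, hl⟩
        exact (h.not_LS hm hn).elim
      · refine h.same hBT ha hb (Or.inr ⟨hl, hm⟩) ?_
        rcases h01 a ha l (Or.inr hl) with h4 | h4 <;> rcases h01 b hb m (Or.inr hm) with h5 | h5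
        · rw [h4, h5]
        · rcases e2.1 (Or.inr (h4 ▸ hl)) with h6 | h6
          · exact (h.not_LS h6 hm).elim
          · exact absurd ((h.uniq_S hm h6).symm.trans h5) (by simp)
        · rcases e2.2 (Or.inr (h5 ▸ hm)) with h6 | h6
          · exact (h.not_LS h6 hl).elim
          · exact absurd ((h.uniq_S hl h6).symm.trans h4) (by simp)
        · rw [h4, h5])
  simpa using c1

theorem le_two (h3 : ∀ c ∈ B, ∀ m, m ≠ 0 → ¬ Lin e U m c) : (centralizer (U : Set G)).relIndex B ≤ 2 := by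
  classical
  have := relIndex_le_card (H := centralizer (U : Set G)) (L := B)
    (fun t => decide (∃ l, Sem e U l t)) (fun a ha b hb hab => by
    simp only [decide_eq_decide] at hab
    have hab' : a⁻¹ * b ∈ B := mul_mem (inv_mem ha) hb
    obtain ⟨n, hn⟩ := h.act _ (hBT hab')
    rcases hn with hn | hn
    · by_cases hn0 : n = 0
      · rw [hn0] at hn
        exact (h.lin_zero (hBT hab')).1 hn
      · exact (h3 _ hab' n hn0 hn).elim
    · exfalso
      have k0 : a * (a⁻¹ * b) = b := by group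
      by_cases hS : ∃ l, Sem e U l a
      · obtain ⟨l₁, hl₁⟩ := hS
        obtain ⟨l₂, hl₂⟩ := hab.1 ⟨l₁, hl₁⟩
        have k1 := h.mul_SS hl₁ hn (hBT hab')
        rw [k0] at k1
        exact h.not_LS k1 hl₂
      · obtain ⟨l₁, hl₁⟩ := h.act a (hBT ha)
        rcases hl₁ with hl₁ | hl₁
        · have k1 := h.mul_LS hl₁ hn (hBT hab')
          rw [k0] at k1
          exact hS (hab.2 ⟨_, k1⟩)
        · exact hS ⟨_, hl₁⟩)
  simpa using this

/-- if all elements are linear -/
theorem le_card (h2 : ∀ a ∈ B, ∃ l, Lin e U l a) : (centralizer (U : Set G)).relIndex B ≤ 4 := by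
  classical
  have := finite_of_card h.cardK
  have h1 := relIndex_le_card (H := centralizer (U : Set G)) (L := B)
    (fun t => if h' : ∃ l, Lin e U l t then h'.choose else 0) (fun a ha b hb hab => by
    have k1 := (h2 a ha).choose_spec
    have k2 := (h2 b hb).choose_spec
    simp only [dif_pos (h2 a ha), dif_pos (h2 b hb)] at hab
    rw [hab] at k1
    exact h.LL_cent (hBT ha) (hBT hb) k1 k2)
  rwa [h.cardK] at h1

/-- if the squares act trivially -/
theorem el_four (h2 : ∀ t ∈ B, t * t ∈ centralizer (U : Set G)) : (centralizer (U : Set G)).relIndex B ≤ 4 := by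
  by_cases hs : ∃ s ∈ B, ∃ l, Sem e U l s
  · have k1 : ∀ s ∈ B, ∀ l, Sem e U l s → l ^ 2 = l := by
      intro s hs l hl
      have h3 := h.mul_SS hl hl (hBT hs)
      have h4 := (h.lin_zero (mul_mem (hBT hs) (hBT hs))).2 (h2 s hs)
      have h5 := h.uniq_L h3 h4
      have := two_eq h.cardK l
      linear_combination h5 - this
    obtain ⟨s, hs, l, hl⟩ := hs
    refine h.le_four hBT fun t ht m hm => ?_
    rcases hm with hm | hm
    · have h3 := k1 _ (mul_mem ht hs) _ (h.mul_LS hm hl (hBT hs))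
      rw [sq_add h.cardK, k1 s hs l hl] at h3
      linear_combination h3
    · exact k1 t ht m hm
  · push Not at hs
    refine h.le_card hBT fun a ha => ?_
    obtain ⟨l, hl⟩ := h.act a (hBT ha)
    exact ⟨l, hl.resolve_right (hs a ha l)⟩

end counts

section shapes

variable (h : Crd K T U Z u e)

include h

/-- `Z = [U, a]` -/
theorem exists_comm {a : G} {m : K} (ha : a ∈ T) (hm : Lin e U m a) (hm0 : m ≠ 0) {z : G} (hz : z ∈ Z) :
    ∃ v ∈ U, a * v * a⁻¹ * v⁻¹ = z := by
  obtain ⟨v, hv, e1⟩ := h.surj (0, m⁻¹ * (e z).1)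
  refine ⟨v, hv, ?_⟩
  have hcn := h.cn ha hv
  rw [h.inv_eq hv]
  refine h.eq_of (mul_mem hcn hv) (h.ZU hz) ?_
  rw [h.mul _ hcn v hv, hm v hv, e1]
  refine Prod.ext ?_ ?_
  · simp only [Prod.fst_add]
    rw [← mul_assoc, mul_inv_cancel₀ hm0]
    ring
  · simp only [Prod.snd_add]
    rw [(h.memZ z (h.ZU hz)).1 hz]
    exact two_eq h.cardK _

/-- the key of uniseriality -/
theorem Z_le {c : G} {l : K} (hcT : c ∈ T) (hc : Sem e U l c) {X : Subgroup G}
    (hX : ∀ x ∈ X, c * x * c⁻¹ ∈ X) {v : G} (hv : v ∈ X) (hvZ : v ∈ Z) (hne : (e v).1 ^ 2 ≠ (e v).1) : Z ≤ X := by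
  have hvU := h.ZU hvZ
  have hv2 := (h.memZ v hvU).1 hvZ
  have hcv := hX v hv
  have hcU := h.cn hcT hvU
  have e1 := hc v hvU
  rw [hv2] at e1
  have e2 : e (v * (c * v * c⁻¹)) = (1, 0) := by
    rw [h.mul _ hvU _ hcU, e1]
    refine Prod.ext ?_ ?_
    · simp only [Prod.fst_add]
      rcases tr_cases h.cardK (e v).1 with h3 | h3
      · exfalso
        apply hne
        have := two_eq h.cardK (e v).1
        linear_combination h3 - this
      · linear_combination h3
    · simp [hv2]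
  have hw : v * (c * v * c⁻¹) ∈ X := mul_mem hv hcv
  have hwU : v * (c * v * c⁻¹) ∈ U := mul_mem hvU hcU
  set w := v * (c * v * c⁻¹) with hwd
  intro z hz
  have hzU := h.ZU hz
  have hz2 := (h.memZ z hzU).1 hz
  have ev : e v = ((e v).1, 0) := Prod.ext rfl hv2
  rcases tr_cases h.cardK (e z).1 with h3 | h3
  · have h4 : (e z).1 ^ 2 = (e z).1 := by
      have := two_eq h.cardK (e z).1
      linear_combination h3 - this
    rcases eq_of_sq_eq _ h4 with h5 | h5
    · have : z = 1 := h.inj z hzU (Prod.ext h5 hz2)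
      rw [this]
      exact one_mem _
    · have : z = w := h.eq_of hzU hwU (by rw [e2]; exact Prod.ext h5 hz2)
      rw [this]
      exact hw
  · have h3' : (e v).1 ^ 2 + (e v).1 = 1 := by
      rcases tr_cases h.cardK (e v).1 with h4 | h4
      · exfalso
        apply hne
        have := two_eq h.cardK (e v).1
        linear_combination h4 - this
      · exact h4
    have h4 : ((e z).1 + (e v).1) ^ 2 = (e z).1 + (e v).1 := by
      rw [sq_add h.cardK]
      have a1 := two_eq h.cardK (1 : K)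
      have a2 := two_eq h.cardK (e z).1
      have a3 := two_eq h.cardK (e v).1
      linear_combination h3 + h3' - a2 - a3 + a1
    rcases eq_of_sq_eq _ h4 with h5 | h5
    · have : z = v := h.eq_of hzU hvU (by
        rw [ev]
        refine Prod.ext ?_ hz2
        have a3 := two_eq h.cardK (e v).1
        simp only
        linear_combination h5 - a3)
      rw [this]
      exact hv
    · have : z = v * w := h.eq_of hzU (mul_mem hvU hwU) (by
        rw [h.mul v hvU w hwU, e2, ev]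
        refine Prod.ext ?_ ?_
        · have a3 := two_eq h.cardK (e v).1
          simp only [Prod.fst_add]
          linear_combination h5 - a3
        · simp [hz2])
      rw [this]
      exact mul_mem hv hw

/-- **uniseriality** -/
theorem ser {c : G} {l : K} (hcT : c ∈ T) (hc : Sem e U l c) (hl : l ^ 2 ≠ l) {X : Subgroup G}
    (hXU : X ≤ U) (hX : ∀ x ∈ X, c * x * c⁻¹ ∈ X) (h2 : 2 < Nat.card X) : Z ≤ X := by
  classical
  by_cases hY : ∃ v ∈ X, (e v).2 ≠ 0
  · obtain ⟨v, hv, hy⟩ := hY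
    have hvU := hXU hv
    have hcv := hX v hv
    have hcU := h.cn hcT hvU
    have e1 := hc v hvU
    have e2 := hc _ hcU
    have hccv := hX _ hcv
    have hccU := h.cn hcT hcU
    rw [e1] at e2
    have hl1 : l ^ 2 + l = 1 := by
      rcases tr_cases h.cardK l with h4 | h4
      · exfalso
        apply hl
        have := two_eq h.cardK l
        linear_combination h4 - this
      · exact h4
    have a4 := pow_four h.cardK (e v).2
    have a5 := pow_four h.cardK (e v).1
    by_cases hy2 : (e v).2 ^ 2 = (e v).2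
    · have hy1 : (e v).2 = 1 := (eq_of_sq_eq _ hy2).resolve_left hy
      have e3 : e (v * (c * v * c⁻¹)) = ((e v).1 + (e v).1 ^ 2 + l, 0) := by
        rw [h.mul _ hvU _ hcU, e1, hy1]
        refine Prod.ext ?_ ?_
        · simp only [Prod.fst_add]
          ring
        · simp only [Prod.snd_add, hy1]
          have := two_eq h.cardK (1 : K)
          linear_combination this
      refine h.Z_le hcT hc hX (mul_mem hv hcv) ((h.memZ _ (mul_mem hvU hcU)).2 (by rw [e3])) ?_
      rw [e3]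
      simp only
      rw [sq_add h.cardK, sq_add h.cardK, sq_sq h.cardK]
      intro h5
      apply hl
      linear_combination h5
    · have e3 : e (v * (c * (c * v * c⁻¹) * c⁻¹)) = ((e v).2, 0) := by
        rw [h.mul _ hvU _ hccU, e2]
        refine Prod.ext ?_ ?_
        · simp only [Prod.fst_add]
          have b1 := two_eq h.cardK (e v).1
          have b2 := two_eq h.cardK ((e v).1 ^ 2 * (l * (e v).2 ^ 2))
          linear_combination b1 + b2 + a5 + (l ^ 2 + l) * a4 + (e v).2 * hl1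
        · simp only [Prod.snd_add]
          have b1 := two_eq h.cardK (e v).2
          linear_combination b1 + a4
      exact h.Z_le hcT hc hX (mul_mem hv hccv) ((h.memZ _ (mul_mem hvU hccU)).2 (by rw [e3])) (by rw [e3]; exact hy2)
  · push Not at hY
    by_contra hcon
    have h3 : ∀ v ∈ X, (e v).1 ^ 2 = (e v).1 := by
      intro v hv
      by_contra hne
      exact hcon (h.Z_le hcT hc hX hv ((h.memZ v (hXU hv)).2 (hY v hv)) hne)
    have h4 : Nat.card X ≤ Nat.card Bool := by
      refine Nat.card_le_card_of_injective (fun v : X => decide ((e v).1 = 0)) fun v w hvw => ?_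
      simp only [decide_eq_decide] at hvw
      refine Subtype.ext (h.eq_of (hXU v.2) (hXU w.2) (Prod.ext ?_ ?_))
      · rcases eq_of_sq_eq _ (h3 v v.2) with h5 | h5 <;> rcases eq_of_sq_eq _ (h3 w w.2) with h6 | h6
        · rw [h5, h6]
        · exact absurd ((hvw.1 h5).symm.trans h6) (by simp)
        · exact absurd ((hvw.2 h6).symm.trans h5) (by simp)
        · rw [h5, h6]
      · rw [hY v v.2, hY w w.2]
    simp at h4
    omega

theorem card_U : Nat.card U = 16 := by
  have h1 : Nat.card U = Nat.card (K × K) := by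
    refine Nat.card_congr (Equiv.ofBijective (fun v : U => e v) ⟨fun v w hvw => ?_, fun x => ?_⟩)
    · exact Subtype.ext (h.eq_of v.2 w.2 hvw)
    · obtain ⟨v, hv, hx⟩ := h.surj x
      exact ⟨⟨v, hv⟩, hx⟩
  rw [h1, Nat.card_prod, h.cardK]

theorem card_Z : Nat.card Z = 4 := by
  rw [← h.cardK]
  refine Nat.card_congr (Equiv.ofBijective (fun v : Z => (e v).1) ⟨fun v w hvw => ?_, fun x => ?_⟩)
  · refine Subtype.ext (h.eq_of (h.ZU v.2) (h.ZU w.2) (Prod.ext hvw ?_))
    rw [(h.memZ _ (h.ZU v.2)).1 v.2, (h.memZ _ (h.ZU w.2)).1 w.2]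
  · obtain ⟨v, hv, hx⟩ := h.surj (x, 0)
    exact ⟨⟨v, (h.memZ v hv).2 (by rw [hx])⟩, by simp [hx]⟩

theorem u_ne : u ≠ 1 := by
  intro h1
  have h2 := h.eu
  rw [h1, h.e_one] at h2
  have := congrArg Prod.fst h2
  simp at this

theorem u_mem : u ∈ Z := (h.memZ u h.uU).2 (by rw [h.eu])

end shapes

end Crd

namespace One

variable (h : One K F T U Z u e)

include h

theorem wd : WD F (V U F) := ⟨XD.X_le_normalizer_W, elab_of h.comm h.sq⟩

theorem V_le_O : V U F ≤ o2 F := V_le fun p hp => by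
  have h1 : cj p U ≤ cj p (o2 F) := cj_mono p h.UO
  rw [cj_o2_self hp] at h1
  exact h1

theorem V_le_F : V U F ≤ F := h.V_le_O.trans (ChoiceSit.o2_le F)

theorem U_le : U ≤ V U F := XD.U_le_W

theorem V_le_T [Finite G] : V U F ≤ T := h.V_le_O.trans h.O_le

/-- `Z` is fixed by a member of `𝒜(T)` -/
theorem A_cent {A : Subgroup G} (hA : A ∈ AA T) : A ≤ centralizer (Z : Set G) := by
  rcases h.full A hA with h1 | ⟨h1, -⟩
  · exact h1.trans (centralizer_le h.ZU)
  · intro a ha
    obtain ⟨l, hl⟩ := h1 a ha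
    rw [mem_centralizer_iff]
    intro z hz
    have hzU := h.ZU hz
    have h3 := hl z hzU
    rw [(h.memZ z hzU).1 hz] at h3
    have h4 := h.eq_of (h.cn (hA.2.1 ha) hzU) hzU (by
      rw [h3]
      refine Prod.ext ?_ ((h.memZ z hzU).1 hz).symm
      simp)
    rw [mul_inv_eq_iff_eq_mul] at h4
    exact h4.symm

/-- a conjugate of `T` which contains the members of `𝒜(T)` -/
theorem det [Finite G] {g : G} (hg : g ∈ F) (h1 : ∀ A ∈ AA T, A ≤ cj g T) : cj g Z = Z := by
  have h2 : jj T ≤ cj g T := by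
    rw [jj_eq]
    exact sSup_le h1
  have h3 : jj T ≤ jj (cj g T) := by
    rw [jj_eq T]
    refine sSup_le fun A hA => le_jj ⟨hA.1, h1 A hA, fun B hB hBT => ?_⟩
    have h4 := hA.2.2 (cj g⁻¹ B) (Cfsg.Agent.PLocal.ThompsonJ.isElementaryAbelian_map hB _) (by
      have := cj_mono g⁻¹ hBT
      rwa [cj_inv_cj] at this)
    rwa [card_cj] at h4
  rw [jj_cj] at h3
  have h4 : jj T = cj g (jj T) := eq_of_le_of_card_ge h3 (by rw [card_cj])
  have h5 : g ∈ normalizer (jj T : Set G) := by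
    rw [mem_normalizer_iff_map_conj_eq]
    exact h4.symm
  exact cj_eq_of_mem_normalizer (h.nJ ⟨hg, h5⟩)

theorem Z_le_V : Z ≤ V U F := h.ZU.trans h.U_le

/-- the index in terms of the module -/
theorem card_ct [Finite G] (E : Subgroup F) :
    Nat.card (ct E (ad h.wd U)) * (centralizer (U : Set G)).relIndex (upc E) = Nat.card E := by
  rw [← MW.card_upc (ct E (ad h.wd U)), MW.upc_ct h.U_le, ← MW.card_upc E, inf_comm, ← inf_relIndex_right]
  exact card_mul_relIndex inf_le_right

theorem upc_T {E : Subgroup F} (hE : E ≤ T.subgroupOf F) : upc E ≤ T := by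
  have := MW.upc_le_iff.2 hE
  rwa [MW.upc_subgroupOf h.syl.1] at this

theorem el_sq {E : Subgroup F} (hE : El (MW h.wd) E) : ∀ t ∈ upc E, t * t ∈ centralizer (U : Set G) := by
  intro t ht
  obtain ⟨htF, htE⟩ := mem_upc.1 ht
  rw [mem_centralizer_iff]
  intro v hv
  have h1 := congrArg MW.vl (hE.sq _ htE (MW.mk h.wd ⟨v, h.U_le hv⟩))
  rw [vl_smul, vl_smul, vl_mk] at h1
  have h2 : t * (t * v * t⁻¹) * t⁻¹ = v := h1
  calc v * (t * t) = t * (t * v * t⁻¹) * t⁻¹ * (t * t) := by rw [h2]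
    _ = t * t * v := by group

theorem us [Finite G] {c : G} (hcO : c ∈ o2 F) {l : K} (hc : Sem e U l c) (hl : l ^ 2 ≠ l) :
    US (Fam F (V U F)) (T.subgroupOf F) ((o2 F).subgroupOf F) (ad h.wd Z) (ad h.wd U)
      (MW.mk h.wd ⟨u, h.U_le h.uU⟩) where
  two x := vl_inj (by rw [vl_add, h.wd.sq (vl_mem x)]; rfl)
  cjA A hA g := Fam.cjA h.wd A hA g
  el A hA := Fam.el h.wd hA
  ff A hA X hX := Fam.ff h.wd h.V_le_F hA X hX
  rep A hA X hX hne := Fam.rep h.wd h.V_le_F hA X hX hne
  syl := Fam.syl h.syl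
  det g hg := by
    rw [smul_ad_eq_iff _ h.Z_le_V h.Z_le_V]
    refine h.det g.2 fun A hA => ?_
    have h1 := hg (A.subgroupOf F) (Fam.of_AA (AA_of_syl h.syl hA)) (subgroupOf_mono F hA.2.1)
    have h2 := MW.upc_le_iff.2 h1
    rwa [MW.upc_cj, MW.upc_subgroupOf (hA.2.1.trans h.syl.1), MW.upc_subgroupOf h.syl.1] at h2
  cen A hA hAS a ha z hz := by
    obtain ⟨A₀, k0, k1, k2⟩ := hA
    have hA₀T : A₀ ≤ T := k2.trans (sup_le (h.upc_T hAS) h.V_le_T)
    have hA₀ : A₀ ∈ AA T := ⟨k0.1, hA₀T, fun B hB hBT => k0.2.2 B hB (hBT.trans h.syl.1)⟩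
    obtain ⟨b, hb, h3⟩ := Fam.exists_eq h.wd k0 k1 ha
    apply vl_inj
    rw [vl_smul, h3 _ (vl_mem z)]
    have h4 := mem_centralizer_iff.1 (h.A_cent hA₀ hb) _ (mem_ad.1 hz)
    rw [← h4, mul_inv_cancel_right]
  ZiZ _ := le_rfl
  dec z hz := ⟨fun _ => z, fun _ => hz, by simp⟩
  uni f _ h0 i := by simpa using h0
  prm g hg _ := ⟨(), hg⟩
  odd g hg ho _ _ z hz := by
    have two : ∀ x : MW h.wd, x + x = 0 := fun x => vl_inj (by rw [vl_add, h.wd.sq (vl_mem x)]; rfl)
    set u' : MW h.wd := MW.mk h.wd ⟨u, h.U_le h.uU⟩ with hu'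
    have huZ : u' ∈ ad h.wd Z := h.u_mem
    have hu0 : u' ≠ 0 := fun h0 => h.u_ne (congrArg MW.vl h0)
    have hgu : g • u' = u' := (smul_eq_iff _ _).2 (h.uF _ g.2)
    have hcZ : Nat.card (ad h.wd Z) = 4 := by rw [MW.card_ad h.Z_le_V, h.card_Z]
    by_cases hz0 : z = 0
    · rw [hz0, smul_zero]
    by_cases hzu : z = u'
    · rw [hzu, hgu]
    have hgz : g • z ∈ ad h.wd Z := by
      rw [← hg]
      exact AddSubgroup.smul_mem_pointwise_smul z g _ hz
    have hgz0 : g • z ≠ 0 := fun h0 => hz0 (by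
      have := congrArg (g⁻¹ • ·) h0
      simpa using this)
    have hgzu : g • z ≠ u' := fun h0 => hzu (by
      have := congrArg (g⁻¹ • ·) h0
      simp only [inv_smul_smul] at this
      rw [this]
      exact inv_smul_eq_iff.2 hgu.symm)
    have h2 : g ^ 2 • z = z := by
      rw [pow_two, mul_smul]
      rcases diff_four two hcZ huZ hz hgz hu0 hz0 hzu hgz0 hgzu with h3 | h3
      · rw [h3, h3]
      · rw [h3, smul_add, h3, hgu, add_assoc, two, add_zero]
    obtain ⟨n, hn⟩ := ho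
    have h3 : ∀ m : ℕ, (g ^ 2) ^ m • z = z := by
      intro m
      induction m with
      | zero => rw [pow_zero, one_smul]
      | succ m ih => rw [pow_succ, mul_smul, h2, ih]
    have h4 : g = ((g ^ 2) ^ n)⁻¹ := by
      rw [eq_inv_iff_mul_eq_one, ← pow_mul, ← pow_succ', ← hn]
      exact pow_orderOf_eq_one g
    rw [h4, inv_smul_eq_iff, h3]
  uZ := h.u_mem
  u0 h0 := h.u_ne (congrArg MW.vl h0)
  uH g := (smul_eq_iff _ _).2 (h.uF _ g.2)
  cardZ := by rw [MW.card_ad h.Z_le_V, h.card_Z]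
  cardV := by rw [MW.card_ad h.U_le, h.card_U]
  SV s hs := (smul_ad_eq_iff _ h.U_le h.U_le).2 (cj_eq_of_mem_normalizer (h.TU (mem_subgroupOf.1 hs)))
  Q2 := by
    rw [← MW.isPGroup_upc, MW.upc_subgroupOf (ChoiceSit.o2_le F)]
    exact h.syl.2.1.to_le h.O_le
  Qn g := by
    apply MW.upc_inj
    rw [MW.upc_cj, MW.upc_subgroupOf (ChoiceSit.o2_le F)]
    exact cj_o2_self g.2
  ser X hX hQ h2 := by
    rw [← MW.ad_gp X]
    refine (MW.ad_le h.Z_le_V).2 ?_
    have hXU : gp X ≤ U := by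
      intro y hy
      obtain ⟨x, hx, rfl⟩ := mem_gp.1 hy
      exact hX hx
    refine h.ser (h.O_le hcO) hc hl hXU (fun y hy => ?_) (by rw [MW.card_gp]; exact h2)
    obtain ⟨x, hx, rfl⟩ := mem_gp.1 hy
    exact ⟨_, hQ ⟨c, ChoiceSit.o2_le F hcO⟩ (mem_subgroupOf.2 hcO) x hx, vl_smul _ _⟩
  el4 E hES hE := by
    have h1 := h.el_four (h.upc_T hES) (h.el_sq hE)
    rw [← h.card_ct E, mul_comm 4]
    exact Nat.mul_le_mul_left _ h1
  el4' E hES hE h4 X hX := by
    have h1 := h.card_ct E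
    rw [h4, mul_comm 4] at h1
    have h2 := Nat.eq_of_mul_eq_mul_left Nat.card_pos h1
    obtain ⟨a, ha, m, hm0, hm⟩ : ∃ a ∈ upc E, ∃ m, m ≠ 0 ∧ Lin e U m a := by
      by_contra hcon
      push Not at hcon
      have := h.le_two (h.upc_T hES) hcon
      omega
    obtain ⟨haF, haE⟩ := mem_upc.1 ha
    intro z hz
    obtain ⟨v, hv, h3⟩ := h.exists_comm (h.upc_T hES ha) hm hm0 (mem_ad.1 hz)
    have h5 := hX _ haE (MW.mk h.wd ⟨v, h.U_le hv⟩) hv
    have h6 : (⟨a, haF⟩ : F) • (MW.mk h.wd ⟨v, h.U_le hv⟩) - MW.mk h.wd ⟨v, h.U_le hv⟩ = z := by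
      apply vl_inj
      rw [vl_sub, vl_smul, vl_mk]
      exact h3
    rwa [h6] at h5

/-- **(1)** the uniserial case -/
theorem F_le_Z [Finite G] {c : G} (hcO : c ∈ o2 F) {l : K} (hc : Sem e U l c) (hl : l ^ 2 ≠ l) :
    F ≤ normalizer (Z : Set G) := by
  intro g hg
  rw [mem_normalizer_iff_map_conj_eq]
  exact (smul_ad_eq_iff (h := h.wd) ⟨g, hg⟩ h.Z_le_V h.Z_le_V).1 ((h.us hcO hc hl).main ⟨g, hg⟩)

end One

end Cfsg.Agent.Omega.OM.FourF

end

section


/-!
# THEOREM F4 (#20047, #20067): the plug at stage `-1`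

* `Pair.conj` : pairs are invariant under `N_G(B)`;
* `mdOf` : the module data from `Dt`;
* `Core D M T X` : a pair `(T, X)` with `T ≤ S` and every `Z i` has a nontrivial element centralised by `X`;
  `Core.one`, `Core.thr`, `Core.false`;
* `le_of_four` : `C_G(η) ≤ M`;
* `noOm_of_four` : (Om) is impossible if `C_G(Z) ≤ C_G(η) N_G(Z_J)`.

`OneMain` is the CLAIM for one index (helper203).
-/

set_option autoImplicit false
set_option linter.unusedSectionVars false

namespace Cfsg.Agent.Omega.OM.FourF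

open Subgroup Cfsg Cfsg.Agent.ZN.ChoiceBase Cfsg.Agent.ZN.ChoiceSit
open Cfsg.Agent.ZN (jj zj bau zc zl o2)
open Cfsg.Agent.Lib.SL2Mat Cfsg.Agent.Omega.NatPair
open Cfsg.Agent.Omega.FFThm (NatK ActsSL)
open Cfsg.Agent.Omega.FrameFF (cv)
open Cfsg.Agent.Omega.OM.YThm
open Cfsg.Agent.Omega.OM.YThm.Plug (Dt)
open Cfsg.Agent.Omega.OM.Swap (Pair AA_two mm_two)
open Cfsg.Agent.Omega.OM.Dich (K0)
open Cfsg.Agent.Omega.OM.BlkGen (FBlk)
open Cfsg.Agent.MinSimple.MinParabolic (IsMinPar)
open Cfsg.Agent.MinSimple.VModule (oddGen oddGen_le mem_oddGen oddGen_def le_normalizer_zl)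
open scoped Pointwise commutatorElement

universe u

variable {G : Type u} [Group G] [Finite G]

section line

variable {ι : Type} [Finite ι] {S : Sylow 2 G} {P : Subgroup G} {L W Z C A : ι → Subgroup G} {q : ℕ}

/-- `Z_J = ∏ Z i` -/
theorem ZJ_le_iSup {κ : Type*} [Finite κ] {B Q V ZJ : Subgroup G} {L W Z C A : κ → Subgroup G} {q m : ℕ}
    (h : OM.Uni.Fr B Q V ZJ L W Z C A q m) : ZJ ≤ ⨆ i, Z i := by
  classical
  have : Fintype κ := Fintype.ofFinite κ
  have key : ∀ s : Finset κ, ∀ v ∈ ZJ, ∃ w ∈ (⨆ i, Z i), w ∈ ZJ ∧ ∀ i ∈ s, w⁻¹ * v ∈ C i := by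
    intro s
    induction s using Finset.induction_on with
    | empty => exact fun v _ => ⟨1, one_mem _, one_mem _, fun i hi => by simp at hi⟩
    | insert j s hj ih =>
      intro v hv
      obtain ⟨w, hw, hwV, hwC⟩ := ih v hv
      obtain ⟨a, ha, c, hc, hcZ, e⟩ := h.split_ZJ j (mul_mem (inv_mem hwV) hv)
      refine ⟨w * a, mul_mem hw ((le_iSup Z j) ha), mul_mem hwV (h.Z_le j ha), fun i hi => ?_⟩
      have e1 : (w * a)⁻¹ * v = a⁻¹ * (w⁻¹ * v) := by group
      rw [e1]
      rcases Finset.mem_insert.1 hi with rfl | hi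
      · rw [e]
        have : a⁻¹ * (a * c) = c := by group
        rw [this]
        exact hc
      · have hij : i ≠ j := fun e => hj (e ▸ hi)
        exact mul_mem (inv_mem (h.WjC i j hij ((h.blk j).ZV ha))) (hwC i hi)
  intro v hv
  obtain ⟨w, hw, hwV, hwC⟩ := key Finset.univ v hv
  have h1 := h.C0 (w⁻¹ * v) (mul_mem (inv_mem (h.ZJV hwV)) (h.ZJV hv)) fun i => hwC i (Finset.mem_univ i)
  have h2 : v = w := (inv_mul_eq_one.1 h1).symm
  rw [h2]
  exact hw

/-- pairs are invariant under `N_G(B)` -/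
theorem Pair.conj (h : Line S P L W Z C A q) {M T X : Subgroup G}
    (hN : normalizer (bau (S : Subgroup G) : Set G) ≤ M) (hp : Pair S P M T X) {n : G}
    (hn : n ∈ normalizer (bau (S : Subgroup G) : Set G)) : Pair S P M (cj n T) (cj n X) := by
  have hB : cj n (bau (S : Subgroup G)) = bau (S : Subgroup G) := cj_eq_of_mem_normalizer hn
  have hM : cj n M = M := cj_eq_of_mem_normalizer (le_normalizer (hN hn))
  have hM' : cj n⁻¹ M = M := cj_eq_of_mem_normalizer (le_normalizer (inv_mem (hN hn)))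
  have hJ : cj n⁻¹ (jj (S : Subgroup G)) = jj (S : Subgroup G) := by
    refine cj_eq_of_mem_normalizer ?_
    have h1 := normalizer_le_jj (bau (S : Subgroup G))
    rw [jj_bau] at h1
    exact h1 (inv_mem hn)
  have hz : cj n (zj (S : Subgroup G)) = zj (S : Subgroup G) := cj_eq_of_mem_normalizer (Dich.norm_zj _ hn)
  refine ⟨Cfsg.Agent.ZN.CaseTwo.syl_cj n hp.syl, ?_, fun hle => hp.nM ?_, fun K hTK hKX => ?_, fun hle => hp.nJ ?_, ?_, ?_⟩
  · rw [← hB]
    exact cj_mono n hp.BT
  · rw [cj_le_iff, hM'] at hle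
    exact hle
  · have h1 : cj n⁻¹ K < X := by
      refine lt_of_le_of_ne ?_ fun e => hKX.ne ?_
      · rw [← cj_inv_cj n X]
        exact cj_mono _ hKX.le
      · rw [← e, cj_cj_inv]
    have h2 := hp.min (cj n⁻¹ K) (by rw [← cj_inv_cj n T]; exact cj_mono _ hTK) h1
    rw [← cj_cj_inv n K, ← hM]
    exact cj_mono n h2
  · rw [pCore_cj] at hle
    have := cj_mono n⁻¹ hle
    rwa [hJ, cj_inv_cj] at this
  · rw [pCore_cj, ← (h.norm hn).1]
    exact cj_mono n hp.VO
  · rw [pCore_cj, ← cj_centralizer, ← cj_centralizer]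
    nth_rewrite 1 [← hz]
    rw [← cj_inf]
    exact cj_mono n hp.fix

/-- `V` commutes with its conjugates under `X` -/
theorem comm_of_pair (h : Line S P L W Z C A q) {M T F : Subgroup G} (hp : Pair S P M T F) {f : G} (hf : f ∈ F)
    {x y : G} (hx : x ∈ zl (S : Subgroup G) P) (hy : y ∈ zl (S : Subgroup G) P) :
    x * (f * y * f⁻¹) = f * y * f⁻¹ * x := by
  have hV := hp.VO
  have hTn := Swap.two_norm h hp.syl.2.1 hp.BT
  have hO : o2 F ≤ T := o2_le_syl hp.syl
  have hcO : cj f (o2 F) = o2 F := cj_eq_of_mem_normalizer (le_normalizer_o2 F hf)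
  have h1 : cj f (zl (S : Subgroup G) P) ≤ normalizer (zl (S : Subgroup G) P : Set G) := by
    have := cj_mono f hV
    rw [hcO] at this
    exact (this.trans hO).trans hTn
  have h2 : zl (S : Subgroup G) P ≤ normalizer ((cj f (zl (S : Subgroup G) P) : Subgroup G) : Set G) := by
    have h3 := cj_mono f ((hO.trans hTn : o2 F ≤ normalizer (zl (S : Subgroup G) P : Set G)))
    rw [hcO, cj_normalizer] at h3
    exact hV.trans h3
  by_contra hne
  refine h.hyp.noFF ⟨P, P, f, h.hyp.star, h.hyp.star, h2, h1, fun e => hne ?_⟩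
  have h4 := commutator_eq_bot_iff_le_centralizer.1 e
  exact (mem_centralizer_iff.1 (h4 hx) (f * y * f⁻¹) ⟨y, hy, rfl⟩).symm

/-- the minimal parabolic -/
theorem Pair.par (_h : Line S P L W Z C A q) {M T X : Subgroup G}
    (hN : normalizer (bau (S : Subgroup G) : Set G) ≤ M) (hp : Pair S P M T X) : IsMinPar T X := by
  have hTM : T ≤ M := (Dich.two_le S hp.syl.2.1 hp.BT).trans hN
  refine ⟨hp.syl.1, fun h1 => hp.nJ ?_, X ⊓ M, lt_of_le_of_ne inf_le_left fun e => hp.nM (inf_eq_left.1 e),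
    fun K hTK hKX => le_inf hKX.le (hp.min K hTK hKX)⟩
  have h2 : T ≤ o2 X := le_o2 hp.syl.2.1 hp.syl.1 h1
  have h3 := LemmaK.Main.jj_eq S hp.syl.2.1 hp.BT
  rw [← h3]
  exact (jj_le T).trans h2

end line

section dt

variable {S : Sylow 2 G} {P : Subgroup G} {F : Type} [Field F] [Finite F]
  [CharP F 2] {k : ℕ} {N : NatK F (S : Subgroup G) P (zl (S : Subgroup G) P) (cv (S : Subgroup G) P) k}
  {L W Z C A : Fin k → Subgroup G}

/-- the module data -/
theorem exists_md (D : Dt S P N L W Z C A) : ∃ z₀ f₀ : Fin k → F,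
    MD N (bau (S : Subgroup G)) (zj (S : Subgroup G)) W Z z₀ f₀ := by
  obtain ⟨z₀, f₀, h1, h2, h3⟩ := D.exists_cn
  exact ⟨z₀, f₀, le_normalizer_zl _ _, D.line.hyp.toHyp.syl.1, h1, h2, h3, D.mem_W, D.mem_Z⟩

variable {z₀ f₀ : Fin k → F}

/-- `N_G(Z_J)` permutes the `Z i` -/
theorem perm_Z (D : Dt S P N L W Z C A) {g : G} (hg : g ∈ normalizer (zj (S : Subgroup G) : Set G)) (i : Fin k) :
    ∃ j, cj g (Z i) = Z j := by
  obtain ⟨n, hn, hgn⟩ := Dt.frat (cj_eq_of_mem_normalizer hg)
  obtain ⟨j, hj, -⟩ := (D.line.norm hn).2 i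
  refine ⟨j, ?_⟩
  rw [← hj]
  ext x
  constructor
  · rintro ⟨z, hz, rfl⟩
    refine ⟨z, hz, ?_⟩
    exact (hgn z (D.line.fr.Z_le i hz)).symm
  · rintro ⟨z, hz, rfl⟩
    refine ⟨z, hz, ?_⟩
    exact hgn z (D.line.fr.Z_le i hz)

/-- `g` permutes the `Z i` and fixes a nontrivial element of `Z i` -/
theorem fix_Z (D : Dt S P N L W Z C A) (m : MD N (bau (S : Subgroup G)) (zj (S : Subgroup G)) W Z z₀ f₀) {g : G}
    (hg : g ∈ normalizer (zj (S : Subgroup G) : Set G)) {i : Fin k} {z : G} (hz : z ∈ Z i) (hz1 : z ≠ 1)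
    (hgz : g * z = z * g) : cj g (Z i) = Z i := by
  obtain ⟨j, hj⟩ := perm_Z D hg i
  have h1 : z ∈ Z j := by
    rw [← hj]
    refine ⟨z, hz, ?_⟩
    show g * z * g⁻¹ = z
    rw [hgz]; group
  by_cases hij : j = i
  · rw [hj, hij]
  exfalso
  apply hz1
  have hzi := (D.mem_Z i z).1 hz
  have hzj := (D.mem_Z j z).1 h1
  refine m.inj (m.WV hzi.1) (one_mem _) ?_
  have h0 : N.e 1 = 0 := by
    have := N.mul 1 (one_mem _) 1 (one_mem _)
    rw [mul_one] at this
    exact left_eq_add.1 this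
  rw [h0]
  funext l
  by_cases hl : l = i
  · rw [hl]
    exact ((D.mem_W j z).1 hzj.1).2 i (Ne.symm hij)
  · exact ((D.mem_W i z).1 hzi.1).2 l hl

/-- The situation after STEP 0. -/
structure Core (D : Dt S P N L W Z C A) (M T X : Subgroup G) : Prop where
  hF : Nat.card F = 4
  hN : normalizer (bau (S : Subgroup G) : Set G) ≤ M
  hD : centralizer (zj (S : Subgroup G) : Set G) ≤ M
  hP : P ≤ M
  hp : Pair S P M T X
  hT : T ≤ (S : Subgroup G)
  fx : ∀ i, ∃ z ∈ Z i, z ≠ 1 ∧ ∀ x ∈ X, x * z = z * x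

namespace Core

variable {D : Dt S P N L W Z C A} {M T X : Subgroup G} (c : Core D M T X)
  (m : MD N (bau (S : Subgroup G)) (zj (S : Subgroup G)) W Z z₀ f₀)

include c m

theorem TZ {t : G} (ht : t ∈ T) (i : Fin k) : cj t (Z i) = Z i := by
  obtain ⟨z, hz, hz1, hzX⟩ := c.fx i
  exact fix_Z D m (Dich.norm_zj _ (Line.S_le S (c.hT ht))) hz hz1 (hzX t (c.hp.syl.1 ht))

theorem OT : o2 X ≤ T := o2_le_syl c.hp.syl

theorem exists_u (i : Fin k) : ∃ u ∈ Z i, MD.co N z₀ f₀ i u = (1, 0) ∧ ∀ x ∈ X, x * u = u * x := by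
  obtain ⟨u, hu, hue⟩ := m.exists_u i
  refine ⟨u, hu, hue, ?_⟩
  have huW := ((D.mem_Z i u).1 hu).1
  by_cases hs : ∃ t ∈ T, ∃ l : F,
      Act (W i) (MD.co N z₀ f₀ i) t (fun p => (p.1 * p.1 + l * (p.2 * p.2), p.2 * p.2))
  · obtain ⟨t, ht, l, hl⟩ := hs
    obtain ⟨z, hz, hz1, hzX⟩ := c.fx i
    obtain ⟨hzW, hz2⟩ := (m.co_Z (z₀ := z₀) (f₀ := f₀)).1 hz
    have h1 := hl z hzW
    have h2 : t * z * t⁻¹ = z := by rw [hzX t (c.hp.syl.1 ht)]; group
    rw [h2] at h1
    have h3 := congrArg Prod.fst h1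
    simp only [hz2, mul_zero, add_zero] at h3
    have h4 : (MD.co N z₀ f₀ i z).1 ≠ 0 := by
      intro h0
      apply hz1
      refine m.co_inj hzW (one_mem _) ?_
      have h5 := m.co_mul (i := i) (one_mem (zl (S : Subgroup G) P)) (one_mem (zl (S : Subgroup G) P))
      rw [mul_one] at h5
      rw [left_eq_add.1 h5]
      exact Prod.ext h0 hz2
    have h5 : (MD.co N z₀ f₀ i z).1 = 1 := mul_left_cancel₀ h4 (by rw [mul_one]; exact h3.symm)
    have h6 : u = z := m.co_inj huW hzW (by rw [hue]; exact Prod.ext h5.symm hz2.symm)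
    rw [h6]
    exact hzX
  · push Not at hs
    have h1 : ∀ o ∈ o2 X, ∀ z ∈ Z i, o * z = z * o := by
      intro o ho z hz
      have hoT := c.OT m ho
      obtain ⟨hzW, hz2⟩ := (m.co_Z (z₀ := z₀) (f₀ := f₀)).1 hz
      obtain ⟨l, hl | hl⟩ := m.act4 c.hF (c.hT hoT) (c.TZ m hoT i)
      · have h3 : o * z * o⁻¹ = z := by
          refine m.co_inj (conjW (m.nW (c.hT hoT) (c.TZ m hoT i)) hzW) hzW ?_
          rw [hl z hzW]
          refine Prod.ext ?_ rfl
          simp [hz2]
        exact mul_inv_eq_iff_eq_mul.1 h3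
      · exact absurd hl (hs o hoT l)
    intro x hx
    have h2 : u ∈ centralizer (X : Set G) :=
      c.hp.fix ⟨D.line.fr.Z_le i hu, mem_centralizer_iff.2 fun o ho => h1 o ho u hu⟩
    exact mem_centralizer_iff.1 h2 x hx

/-- the structure `Thr` -/
theorem thr {u : Fin k → G} (hu : ∀ i, u i ∈ Z i) (hue : ∀ i, MD.co N z₀ f₀ i (u i) = (1, 0))
    (huX : ∀ i, ∀ x ∈ X, x * u i = u i * x) : Thr X T M W Z u (MD.co N z₀ f₀) where
  card := c.hF
  syl := c.hp.syl
  TM := (Dich.two_le S c.hp.syl.2.1 c.hp.BT).trans c.hN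
  co := fun i => m.toCo (hu i) (hue i)
  TN := fun i t ht => m.nW (c.hT ht) (c.TZ m ht i)
  act := fun i t ht => m.act4 c.hF (c.hT ht) (c.TZ m ht i)
  full := fun i l => by
    obtain ⟨b, hb, h1⟩ := m.full i l
    exact ⟨b, c.hp.BT hb, h1⟩
  sl := fun i a b c' d hd => by
    obtain ⟨g, hg, h1, h2, h3⟩ := m.sl i a b c' d hd
    exact ⟨g, c.hP hg, h1, h2, h3⟩
  NM := fun g hg => by
    have h1 : g ∈ normalizer (zj (S : Subgroup G) : Set G) := by
      have h2 : zj (S : Subgroup G) = ⨆ i, Z i := by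
        exact le_antisymm (ZJ_le_iSup D.line.fr) (iSup_le D.line.fr.Z_le)
      rw [mem_normalizer_iff_cj, h2, Swap.cj_iSup]
      exact iSup_congr hg
    exact ((Dich.norm_zj_le S).trans (sup_le c.hD c.hN)) h1
  Xu := huX
  fix := fun i hi x hx z hz => by
    have h2 : z ∈ centralizer (X : Set G) :=
      c.hp.fix ⟨D.line.fr.Z_le i hz, mem_centralizer_iff.2 fun o ho => hi o ho z hz⟩
    exact mem_centralizer_iff.1 h2 x hx

/-- the conjugates of `W i` generate an elementary abelian group -/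
theorem ab (i : Fin k) : (∀ x ∈ NoFF.Basic.V (W i) X, ∀ y ∈ NoFF.Basic.V (W i) X, x * y = y * x) ∧
    ∀ x ∈ NoFF.Basic.V (W i) X, x * x = 1 := by
  have hWV : ∀ w ∈ W i, w ∈ zl (S : Subgroup G) P := fun w hw => m.WV hw
  have key := Swap.elab_iSup (W := fun p : X => cj (p : G) (W i)) (fun f g x hx y hy => ?_) (fun f x hx => ?_)
  · exact key
  · have h1 := comm_of_pair D.line c.hp (mul_mem (inv_mem f.2) g.2) (hWV _ (mem_cj.1 hx)) (hWV _ (mem_cj.1 hy))
    have e1 : (f : G)⁻¹ * g * ((g : G)⁻¹ * y * g) * ((f : G)⁻¹ * g)⁻¹ = (f : G)⁻¹ * y * f := by group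
    rw [e1] at h1
    have e2 : (f : G)⁻¹ * x * f * ((f : G)⁻¹ * y * f) = (f : G)⁻¹ * (x * y) * f := by group
    have e3 : (f : G)⁻¹ * y * f * ((f : G)⁻¹ * x * f) = (f : G)⁻¹ * (y * x) * f := by group
    rw [e2, e3] at h1
    exact mul_left_cancel (mul_right_cancel h1)
  · have h1 := SQ1.Bau.elem_sq D.line.fr.el _ (hWV _ (mem_cj.1 hx))
    have e2 : ((f : G)⁻¹ * x * f) ^ 2 = (f : G)⁻¹ * (x * x) * f := by rw [pow_two]; group
    rw [e2] at h1
    have : x * x = f * ((f : G)⁻¹ * (x * x) * f) * (f : G)⁻¹ := by group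
    rw [this, h1]
    group

/-- the structure `One` for the index `i` -/
theorem one {i : Fin k} {u : G} (hu : u ∈ Z i) (hue : MD.co N z₀ f₀ i u = (1, 0))
    (huX : ∀ x ∈ X, x * u = u * x) : One F X T (W i) (Z i) u (MD.co N z₀ f₀ i) where
  cardK := c.hF
  TU := fun t ht => m.nW (c.hT ht) (c.TZ m ht i)
  Uc := fun v hv w hw => D.line.fr.Vc (m.WV hv) (m.WV hw)
  U2 := fun v hv => by
    rw [← pow_two]
    exact SQ1.Bau.elem_sq D.line.fr.el v (m.WV hv)
  uU := ((D.mem_Z i u).1 hu).1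
  eu := hue
  ZU := fun z hz => ((D.mem_Z i z).1 hz).1
  mul := fun v hv w hw => m.co_mul (m.WV hv) (m.WV hw)
  inj := (m.toCo hu hue).ker
  surj := m.co_surj i
  memZ := fun v hv => by
    rw [(m.toCo hu hue).memZ]
    exact ⟨fun h => h.2, fun h => ⟨hv, h⟩⟩
  act := fun t ht => by
    obtain ⟨l, hl | hl⟩ := m.act4 c.hF (c.hT ht) (c.TZ m ht i)
    · exact ⟨l, Or.inl hl⟩
    · refine ⟨l, Or.inr fun v hv => ?_⟩
      rw [hl v hv]
      simp only [pow_two]
  syl := c.hp.syl
  par := Pair.par D.line c.hN c.hp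
  UO := fun v hv => c.hp.VO (m.WV hv)
  comm := (c.ab m i).1
  sq := (c.ab m i).2
  uF := huX
  full := fun A' hA' => by
    have hAS := AA_two S c.hp.syl.2.1 c.hp.BT hA'
    by_cases hW : A' ≤ centralizer (W i : Set G)
    · exact Or.inl hW
    right
    have hVS : zl (S : Subgroup G) P ≤ (S : Subgroup G) := (Swap.V_le_bau D.line).trans (bau_le _)
    have hWV : W i ≤ zl (S : Subgroup G) P := fun w hw => m.WV hw
    have hoff := FFThm.off_of_AA D.line.fr.el hVS hAS fun h1 => hW (h1.trans (centralizer_le (by exact_mod_cast hWV)))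
    obtain ⟨I, hI1, hI2⟩ := N.off A' hAS.2.1 hoff
    have hup : ∀ (a : G) (b : Fin k → F), ActsSL N.e (zl (S : Subgroup G) P) (cv (S : Subgroup G) P) a (fun i => up (b i)) →
        Lin (MD.co N z₀ f₀ i) (W i) ((z₀ i)⁻¹ * b i * f₀ i) a := by
      intro a b hab v hv
      have h1 := hab.1 v (m.WV hv) i
      have h0 := m.hf i
      refine Prod.ext ?_ ?_
      · rw [MD.co_fst, h1, ap_zero', up_00, up_01]
        show _ = (z₀ i)⁻¹ * N.e v i 0 + (z₀ i)⁻¹ * b i * f₀ i * ((f₀ i)⁻¹ * N.e v i 1)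
        field_simp
      · rw [MD.co_snd, h1, ap_one', up_10, up_11, zero_mul, one_mul, zero_add]
        rfl
    have hiI : i ∈ I := by
      by_contra hi
      apply hW
      intro a ha
      obtain ⟨b, hb, hab⟩ := hI1 a ha
      have h1 := hup a b hab
      rw [hb i hi, mul_zero, zero_mul] at h1
      refine mem_centralizer_iff.2 fun v hv => ?_
      have h2 : a * v * a⁻¹ = v := by
        refine m.co_inj ?_ hv ?_
        · exact conjW (m.nW (hAS.2.1 ha) (c.TZ m (hA'.2.1 ha) i)) hv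
        · rw [h1 v hv, zero_mul, add_zero]
      exact (mul_inv_eq_iff_eq_mul.1 h2).symm
    refine ⟨fun a ha => ?_, fun l => ?_⟩
    · obtain ⟨b, hb, hab⟩ := hI1 a ha
      exact ⟨_, hup a b hab⟩
    · obtain ⟨a, ha, hab⟩ := hI2 (Pi.single i (z₀ i * l * (f₀ i)⁻¹)) fun j hj => by
        rw [Pi.single_eq_of_ne]
        rintro rfl
        exact hj hiI
      refine ⟨a, ha, ?_⟩
      have h1 := hup a _ hab
      rw [Pi.single_eq_same] at h1
      have e1 : (z₀ i)⁻¹ * (z₀ i * l * (f₀ i)⁻¹) * f₀ i = l := by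
        have := m.hz i
        have := m.hf i
        field_simp
      rwa [e1] at h1
  ex := by
    have h1 : A i ∈ AA T := by
      rw [mem_AA_iff]
      refine ⟨D.line.fr.Ael i, (D.line.fr.AB i).trans c.hp.BT, ?_⟩
      rw [mm_two S c.hp.syl.2.1 c.hp.BT, D.line.fr.Am i]
    refine ⟨A i, h1, fun h2 => D.line.fr.Ane i fun a ha v hv => ?_⟩
    exact (mem_centralizer_iff.1 (h2 ha) v hv).symm
  nJ := by
    rintro x ⟨hx, hxJ⟩
    have h1 : x ∈ normalizer (zj (S : Subgroup G) : Set G) := by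
      have h2 := LemmaK.Main.jj_eq S c.hp.syl.2.1 c.hp.BT
      rw [h2] at hxJ
      have h7 := normalizer_le_of_cj (F := zj) zj_cj (jj (S : Subgroup G))
      have h8 : zj (jj (S : Subgroup G)) = zj (S : Subgroup G) :=
        zj_congr (jj_eq_of_jj_le le_rfl (jj_le _))
      rw [h8] at h7
      exact h7 hxJ
    rw [mem_normalizer_iff_cj]
    refine fix_Z D m h1 hu ?_ (huX x hx)
    rintro rfl
    have h2 := m.co_mul (i := i) (one_mem (zl (S : Subgroup G) P)) (one_mem (zl (S : Subgroup G) P))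
    rw [mul_one] at h2
    rw [left_eq_add.1 h2] at hue
    exact zero_ne_one (congrArg Prod.fst hue)

end Core

/-- The CLAIM for one index (helper203). -/
def OneMain : Prop :=
  ∀ (K : Type) [Field K] [CharP K 2] (G : Type u) [Group G] [Finite G] (X T U Z : Subgroup G) (u : G) (e : G → K × K),
    One K X T U Z u e → (Z ≤ centralizer (o2 X : Set G) → X ≤ centralizer (Z : Set G)) →
      X ≤ normalizer (Z : Set G) ∨ X ≤ normalizer (U : Set G)

/-- **no pair** -/
theorem Core.false (h1 : OneMain.{u}) {D : Dt S P N L W Z C A} {M T X : Subgroup G} (c : Core D M T X) : False := by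
  obtain ⟨z₀, f₀, m⟩ := exists_md D
  choose u hu hue huX using c.exists_u m
  have ht := c.thr m hu hue huX
  refine c.hp.nM (ht.le fun i => ?_)
  have hfix : Z i ≤ centralizer (o2 X : Set G) → X ≤ centralizer (Z i : Set G) := by
    intro hi x hx
    refine mem_centralizer_iff.2 fun z hz => ?_
    have h3 : z ∈ centralizer (X : Set G) := c.hp.fix ⟨D.line.fr.Z_le i hz, hi hz⟩
    exact (mem_centralizer_iff.1 h3 x hx).symm
  rcases h1 F G X T (W i) (Z i) (u i) _ (c.one m (hu i) (hue i) (huX i)) hfix with h2 | h2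
  · right
    intro x hx z hz
    have h3 : oddGen X ≤ centralizer (Z i : Set G) := by
      rw [oddGen_def, closure_le]
      rintro f ⟨hf, ho⟩
      refine mem_centralizer_iff.2 fun z hz => ?_
      exact ((ht.co i).cent_of_nor c.hF (h2 hf) (huX i f hf) ho z hz).symm
    exact (mem_centralizer_iff.1 (h3 hx) z hz).symm
  · exact Or.inl h2

/-- a 2-group over `B` lies in a Sylow group `S^g`, `g ∈ N_G(B)` -/
theorem exists_cj_S {T : Subgroup G} (hT : IsPGroup 2 T) (hB : bau (S : Subgroup G) ≤ T) :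
    ∃ g ∈ normalizer (bau (S : Subgroup G) : Set G), T ≤ cj g (S : Subgroup G) := by
  obtain ⟨S', hS'⟩ := hT.exists_le_sylow
  obtain ⟨g, hg⟩ := MulAction.exists_smul_eq G S S'
  have hg2 : (S' : Subgroup G) = cj g (S : Subgroup G) := by
    rw [← hg, Sylow.coe_subgroup_smul]
    rfl
  have h1 := LemmaK.Main.bau_eq S S'.isPGroup' (hB.trans hS')
  refine ⟨g, ?_, hg2 ▸ hS'⟩
  rw [mem_normalizer_iff_cj, ← bau_cj, ← hg2, h1]

/-- **THEOREM F4**: `C_G(η) ≤ M` for `|F| = 4`. -/
theorem le_of_four (h1 : OneMain.{u}) (hFF : FFThm.Stmt.{u}) (hA : FFBr.AStmt.{u}) (D : Dt S P N L W Z C A)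
    (hF : Nat.card F = 4) {M : Subgroup G} (hK : K0 (S : Subgroup G) (FBlk (S : Subgroup G)) ≤ M)
    (hN : normalizer (bau (S : Subgroup G) : Set G) ≤ M) (hP : P ≤ M) {E : Subgroup G}
    (hE : E ≤ zj (S : Subgroup G)) (hEi : ∀ i, ∃ z ∈ Z i, z ≠ 1 ∧ z ∈ E) : centralizer (E : Set G) ≤ M := by
  by_contra hM
  have hk : 0 < k := by have := D.two; omega
  have hS2 : IsPGroup 2 (zj (S : Subgroup G)) := S.isPGroup'.to_le ((Swap.zj_le_bau _).trans (bau_le _))
  have hE1 : E ≠ ⊥ := by
    rintro rfl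
    obtain ⟨z, -, hz1, hz⟩ := hEi ⟨0, hk⟩
    exact hz1 (mem_bot.1 hz)
  have hBE : bau (S : Subgroup G) ≤ centralizer (E : Set G) :=
    (Dich.bau_le_cent _).trans (centralizer_le (by exact_mod_cast hE))
  obtain ⟨T, X, hp, hX⟩ := Swap.exists_pair D.line hFF hA hK hN hBE
    (Swap.char2_cent D.line.hyp.ctx.char2 (hS2.to_le hE) hE1) hM
  obtain ⟨g, hg, hTg⟩ := exists_cj_S hp.syl.2.1 hp.BT
  have hp' := Pair.conj D.line hN hp (inv_mem hg)
  refine Core.false h1 (D := D) (M := M) (T := cj g⁻¹ T) (X := cj g⁻¹ X)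
    ⟨hF, hN, Dich.cent_le_K0.trans hK, hP, hp', ?_, fun i => ?_⟩
  · rw [← cj_inv_cj g (S : Subgroup G)]
    exact cj_mono _ hTg
  · obtain ⟨j, hj, -⟩ := (D.line.norm hg).2 i
    obtain ⟨z, hz, hz1, hzE⟩ := hEi j
    rw [← hj, mem_cj] at hz
    refine ⟨_, hz, fun h2 => hz1 ?_, fun x hx => ?_⟩
    · have : z = g * (g⁻¹ * z * g) * g⁻¹ := by group
      rw [this, h2]; group
    · rw [mem_cj, inv_inv] at hx
      have h3 := mem_centralizer_iff.1 (hX hx) z hzE
      calc x * (g⁻¹ * z * g) = g⁻¹ * (g * x * g⁻¹ * z) * g := by group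
        _ = g⁻¹ * (z * (g * x * g⁻¹)) * g := by rw [h3]
        _ = _ := by group

/-- **(Om) is impossible for `|F| = 4`** if `C_G(Z) ≤ C_G(η) N_G(Z_J)` (stage `-1`). -/
theorem noOm_of_four (h1 : OneMain.{u}) (hFF : FFThm.Stmt.{u}) (hA : FFBr.AStmt.{u}) (D : Dt S P N L W Z C A)
    (hF : Nat.card F = 4) (hE : ∃ E : Subgroup G, E ≤ zj (S : Subgroup G) ∧ (∀ i, ∃ z ∈ Z i, z ≠ 1 ∧ z ∈ E) ∧
      FrameNOFF.CZ (S : Subgroup G) ≤ centralizer (E : Set G) ⊔ normalizer (zj (S : Subgroup G) : Set G)) :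
    ∀ R : Subgroup G, IsPGroup 2 R → K0 (S : Subgroup G) (FBlk (S : Subgroup G)) ≤ normalizer (R : Set G) →
      R = ⊥ := by
  rcases D.line.cases hFF with hE | ⟨M, hM, ho, -, hK, hD, -, hN, hS, hP⟩
  · exact hE
  exfalso
  obtain ⟨E, hE1, hE2, hE3⟩ := hE
  have h2 : FrameNOFF.CZ (S : Subgroup G) ≤ M :=
    hE3.trans (sup_le (le_of_four h1 hFF hA D hF hK hN hP hE1 hE2) ((Dich.norm_zj_le S).trans (sup_le hD hN)))
  apply ho
  refine D.line.hyp.nonLoc _ (isPGroup_o2 _) ?_ ?_
  · rw [← hM]; exact hP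
  · rw [← hM]; exact h2

end dt

end Cfsg.Agent.Omega.OM.FourF

end

section


/-!
# THEOREM 4F at all stages (helper87): the local structure of type `K`

`O ≤ T` acts on `U` by `Lin l`, `Sem l` with `l` in the prime field:

* `Crd.loc` : 394's `Swap.Loc O U DD u`;
* `Crd.EE b = {(x, y) | y² = y, x² + x = b y}` (`b = true, false`), of order 4, `= [U, c] = C_U(c)` for `c = Sem b`;
* `Crd.cj_EE` : an element `Lin m` with `m² ≠ m` interchanges `EE true`, `EE false`.
-/

set_option autoImplicit false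

namespace Cfsg.Agent.Omega.OM.FourF

open Subgroup Cfsg Cfsg.Agent.ZN Cfsg.Agent.ZN.ChoiceBase Cfsg.Agent.ZN.ChoiceSit Cfsg.Agent.Omega.OM.Swap

universe u

variable {K : Type} [Field K] {G : Type u} [Group G] {T U Z : Subgroup G} {u : G} {e : G → K × K}

/-- `b` as an element of the field -/
def bK (K : Type) [Field K] (b : Bool) : K := if b then 1 else 0

theorem bK_sq (b : Bool) : bK K b ^ 2 = bK K b := by
  cases b <;> simp [bK]

theorem exists_b {l : K} (hl : l ^ 2 = l) : ∃ b, bK K b = l := by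
  rcases eq_of_sq_eq l hl with h | h
  · exact ⟨false, by simp [bK, h]⟩
  · exact ⟨true, by simp [bK, h]⟩

theorem bK_inj {b b' : Bool} (h : bK K b = bK K b') : b = b' := by
  cases b <;> cases b' <;> simp [bK] at h ⊢

theorem bK_not (b : Bool) : bK K (!b) = bK K b + 1 ∨ bK K (!b) + 1 = bK K b := by
  cases b <;> simp [bK]

namespace Crd

variable (h : Crd K T U Z u e)

include h

theorem e_u {v : G} (hv : v ∈ U) (h1 : (e v).1 ^ 2 = (e v).1) (h2 : (e v).2 = 0) : v = 1 ∨ v = u := by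
  rcases eq_of_sq_eq _ h1 with h3 | h3
  · left
    exact h.inj v hv (Prod.ext h3 h2)
  · right
    refine h.eq_of hv h.uU ?_
    rw [h.eu]
    exact Prod.ext h3 h2

theorem mul_self {x : K} : x + x = 0 := two_eq h.cardK x

theorem commL {t v : G} {l : K} (ht : t ∈ T) (hl : Lin e U l t) (hv : v ∈ U) :
    e (v * (t * v * t⁻¹)) = (l * (e v).2, 0) := by
  rw [h.mul v hv _ (h.cn ht hv), hl v hv]
  refine Prod.ext ?_ ?_
  · have := two_eq h.cardK (e v).1
    simp only [Prod.fst_add]
    linear_combination this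
  · exact two_eq h.cardK _

theorem commS {t v : G} {l : K} (ht : t ∈ T) (hl : Sem e U l t) (hv : v ∈ U) :
    e (v * (t * v * t⁻¹)) = ((e v).1 ^ 2 + (e v).1 + l * (e v).2 ^ 2, (e v).2 ^ 2 + (e v).2) := by
  rw [h.mul v hv _ (h.cn ht hv), hl v hv]
  refine Prod.ext ?_ ?_
  · simp only [Prod.fst_add]
    ring
  · simp only [Prod.snd_add]
    ring

theorem tr_sq (x : K) : (x ^ 2 + x) ^ 2 = x ^ 2 + x := by
  rcases tr_cases h.cardK x with h1 | h1 <;> rw [h1] <;> simp

/-- `EE b = {(x, y) | y² = y, x² + x = b y}` -/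
def EE (b : Bool) : Subgroup G where
  carrier := {v | v ∈ U ∧ (e v).2 ^ 2 = (e v).2 ∧ (e v).1 ^ 2 + (e v).1 = bK K b * (e v).2}
  one_mem' := ⟨one_mem _, by rw [h.e_one]; simp, by rw [h.e_one]; simp⟩
  mul_mem' := by
    rintro v w ⟨hv, h1, h2⟩ ⟨hw, h3, h4⟩
    refine ⟨mul_mem hv hw, ?_, ?_⟩
    · rw [h.mul v hv w hw, Prod.snd_add, sq_add h.cardK, h1, h3]
    · rw [h.mul v hv w hw, Prod.snd_add, Prod.fst_add, sq_add h.cardK]
      linear_combination h2 + h4
  inv_mem' := by
    rintro v ⟨hv, h1, h2⟩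
    rw [h.inv_eq hv]
    exact ⟨hv, h1, h2⟩

theorem mem_EE {b : Bool} {v : G} :
    v ∈ h.EE b ↔ v ∈ U ∧ (e v).2 ^ 2 = (e v).2 ∧ (e v).1 ^ 2 + (e v).1 = bK K b * (e v).2 := Iff.rfl

theorem EE_le_DD (b : Bool) : h.EE b ≤ h.DD := fun _ hv => ⟨hv.1, hv.2.1⟩

theorem EE_le_U (b : Bool) : h.EE b ≤ U := fun _ hv => hv.1

/-- an element of `EE b` with `y = 1` -/
theorem exists_one (b : Bool) {w : K} (hw : w ^ 2 = w + 1) : ∃ v ∈ h.EE b, e v = (bK K b * w, 1) := by
  obtain ⟨v, hv, e1⟩ := h.surj (bK K b * w, 1)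
  refine ⟨v, ⟨hv, ?_, ?_⟩, e1⟩
  · rw [e1]; simp
  · rw [e1]
    simp only
    have h1 := bK_sq (K := K) b
    have h2 := two_eq h.cardK (bK K b * w)
    linear_combination w ^ 2 * h1 + bK K b * hw + h2

theorem EE_inj {b b' : Bool} (hb : h.EE b = h.EE b') : b = b' := by
  obtain ⟨w, hw⟩ := exists_w h.cardK
  obtain ⟨v, hv, e1⟩ := h.exists_one b hw
  rw [hb] at hv
  have h1 := hv.2.2
  rw [e1] at h1
  simp only at h1
  apply bK_inj (K := K)
  have h2 := bK_sq (K := K) b
  have h3 := two_eq h.cardK (bK K b * w)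
  linear_combination h1 - w ^ 2 * h2 - bK K b * hw - h3

theorem EE_ne : h.EE true ≠ h.EE false := fun h1 => by
  have := h.EE_inj h1
  simp at this

theorem card_EE (b : Bool) : Nat.card (h.EE b) = 4 := by
  classical
  obtain ⟨w, hw⟩ := exists_w h.cardK
  have hw2 := h.ne_of_w hw
  have w0 : w ≠ 0 := fun h0 => hw2 (by rw [h0]; simp)
  have w1 : w ≠ 1 := fun h0 => hw2 (by rw [h0]; simp)
  have hone : (1 : K) + 1 = 0 := two_eq h.cardK 1
  apply le_antisymm
  · have h1 : Nat.card (h.EE b) ≤ Nat.card (Bool × Bool) := by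
      refine Nat.card_le_card_of_injective (fun v : h.EE b =>
        (decide ((e v).2 = 0), decide ((e v).1 = 0 ∨ (e v).1 = w))) fun v v' hvv => ?_
      obtain ⟨h1, h2⟩ := Prod.ext_iff.1 hvv
      simp only [decide_eq_decide] at h1 h2
      obtain ⟨v, hv, hy, hx⟩ := v
      obtain ⟨v', hv', hy', hx'⟩ := v'
      simp only at h1 h2
      have e2 : (e v).2 = (e v').2 := by
        rcases eq_of_sq_eq _ hy with h3 | h3 <;> rcases eq_of_sq_eq _ hy' with h4 | h4
        · rw [h3, h4]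
        · exact absurd ((h1.1 h3).symm.trans h4) (by simp)
        · exact absurd ((h1.2 h4).symm.trans h3) (by simp)
        · rw [h3, h4]
      have e3 : ((e v).1 + (e v').1) ^ 2 = (e v).1 + (e v').1 := by
        rw [sq_add h.cardK]
        rw [← e2] at hx'
        have a1 := two_eq h.cardK (e v).1
        have a2 := two_eq h.cardK (e v').1
        have a3 := two_eq h.cardK (bK K b * (e v).2)
        linear_combination hx + hx' - a1 - a2 + a3
      have e4 : (e v).1 = (e v').1 := by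
        rcases eq_of_sq_eq _ e3 with h3 | h3
        · have a2 := two_eq h.cardK (e v').1
          linear_combination h3 - a2
        · exfalso
          have a2 := two_eq h.cardK (e v').1
          have h4 : (e v).1 = (e v').1 + 1 := by linear_combination h3 - a2
          have a1 := two_eq h.cardK (e v).1
          have h5 : (e v').1 = (e v).1 + 1 := by linear_combination h3 - a1
          have four : ∀ x : K, x = 0 ∨ x = 1 ∨ x = w ∨ x = w + 1 := by
            intro x
            rcases tr_cases h.cardK x with h6 | h6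
            · have h7 : x ^ 2 = x := by
                have := two_eq h.cardK x
                linear_combination h6 - this
              rcases eq_of_sq_eq x h7 with h8 | h8
              · exact Or.inl h8
              · exact Or.inr (Or.inl h8)
            · have h7 : (x + w) ^ 2 = x + w := by
                rw [sq_add h.cardK, hw]
                have := two_eq h.cardK x
                have h8 := two_eq h.cardK (1 : K)
                linear_combination h6 - this + h8
              rcases eq_of_sq_eq _ h7 with h8 | h8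
              · right; right; left
                have := two_eq h.cardK w
                linear_combination h8 - this
              · right; right; right
                have := two_eq h.cardK w
                linear_combination h8 - this
          rcases four (e v).1 with h6 | h6 | h6 | h6
          · rcases h2.1 (Or.inl h6) with h7 | h7
            · rw [h7, h6, zero_add] at h5; exact zero_ne_one h5
            · rw [h7, h6, zero_add] at h5; exact w1 h5
          · rcases h2.2 (Or.inl (by rw [h5, h6, hone])) with h7 | h7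
            · rw [h7] at h6; exact zero_ne_one h6
            · rw [h7] at h6; exact w1 h6
          · rcases h2.1 (Or.inr h6) with h7 | h7
            · rw [h7, h6] at h5
              apply w1
              have := two_eq h.cardK (1 : K)
              linear_combination -h5 - this
            · rw [h7, h6] at h5
              exact one_ne_zero (left_eq_add.1 h5)
          · rcases h2.2 (Or.inr (by rw [h5, h6, add_assoc, hone, add_zero])) with h7 | h7
            · rw [h7] at h6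
              apply w1
              have := two_eq h.cardK (1 : K)
              linear_combination -h6 - this
            · rw [h7] at h6
              exact one_ne_zero (left_eq_add.1 h6)
      exact Subtype.ext (h.eq_of hv hv' (Prod.ext e4 e2))
    simpa using h1
  · obtain ⟨v, hv, e1⟩ := h.exists_one b hw
    have hu : u ∈ h.EE b := ⟨h.uU, by rw [h.eu]; simp, by rw [h.eu]; simp [hone]⟩
    have h1 : Nat.card (Bool × Bool) ≤ Nat.card (h.EE b) := by
      have hfin : Finite (h.EE b) := by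
        have : Finite U := Nat.finite_of_card_ne_zero (by rw [h.card_U]; norm_num)
        exact Finite.of_injective (fun v : h.EE b => (⟨v.1, v.2.1⟩ : U)) fun v w hvw =>
          Subtype.ext (Subtype.mk.inj hvw)
      refine Nat.card_le_card_of_injective (fun p : Bool × Bool =>
        (⟨(if p.1 then u else 1) * (if p.2 then v else 1), mul_mem (by split_ifs; exacts [hu, one_mem _])
          (by split_ifs; exacts [hv, one_mem _])⟩ : h.EE b)) fun p q hpq => ?_
      have hpq' := congrArg Subtype.val hpq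
      simp only at hpq'
      have key : ∀ p : Bool × Bool, e ((if p.1 then u else 1) * (if p.2 then v else 1)) =
          (bK K p.1 + bK K p.2 * (bK K b * w), bK K p.2) := by
        rintro ⟨i, j⟩
        cases i <;> cases j <;> refine Prod.ext ?_ ?_ <;> simp [bK, h.e_one, h.eu, e1, h.mul u h.uU v hv.1]
      have h3 := congrArg e hpq'
      rw [key, key] at h3
      obtain ⟨h4, h5⟩ := Prod.ext_iff.1 h3
      simp only at h4 h5
      have h6 := bK_inj h5
      rw [h6] at h4
      have h7 := bK_inj (add_right_cancel h4)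
      exact Prod.ext h7 h6
    simpa using h1

/-- `[U, c] ≤ EE b` for `c = Sem b` -/
theorem comm_mem_EE {c : G} {b : Bool} (hcT : c ∈ T) (hc : Sem e U (bK K b) c) {v : G} (hv : v ∈ U) :
    v * (c * v * c⁻¹) ∈ h.EE b := by
  refine ⟨mul_mem hv (h.cn hcT hv), ?_, ?_⟩
  · rw [h.commS hcT hc hv]
    exact h.tr_sq _
  · rw [h.commS hcT hc hv]
    simp only
    have h1 := h.tr_sq (e v).1
    have h2 := bK_sq (K := K) b
    have h3 := pow_four h.cardK (e v).2
    have h4 := sq_add h.cardK ((e v).1 ^ 2 + (e v).1) (bK K b * (e v).2 ^ 2)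
    have h5 := two_eq h.cardK ((e v).1 ^ 2 + (e v).1)
    rw [h4, h1]
    linear_combination h5 + (e v).2 ^ 4 * h2 + bK K b * h3

/-- `C_U(c) = EE b` for `c = Sem b` -/
theorem ce_S {c : G} {b : Bool} (hcT : c ∈ T) (hc : Sem e U (bK K b) c) : ce U c = h.EE b := by
  ext v
  rw [mem_ce, h.mem_EE]
  refine and_congr_right fun hv => ?_
  rw [← mul_inv_eq_iff_eq_mul]
  constructor
  · intro h1
    have h2 := hc v hv
    rw [h1] at h2
    obtain ⟨h3, h4⟩ := Prod.ext_iff.1 h2
    simp only at h3 h4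
    refine ⟨h4.symm, ?_⟩
    rw [← h4] at h3
    have h5 := two_eq h.cardK (e v).1
    have h6 := two_eq h.cardK (bK K b * (e v).2)
    linear_combination -h3 + h5 - h6
  · rintro ⟨h1, h2⟩
    refine h.eq_of (h.cn hcT hv) hv ?_
    rw [hc v hv]
    refine Prod.ext ?_ h1
    simp only
    rw [h1]
    have h5 := two_eq h.cardK (e v).1
    have h6 := two_eq h.cardK (bK K b * (e v).2)
    linear_combination h2 - h5 + h6

/-- `C_U(c) = Z` for `c = Lin 1` -/
theorem ce_L {c : G} {m : K} (hcT : c ∈ T) (hc : Lin e U m c) (hm : m ≠ 0) : ce U c = Z := by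
  ext v
  rw [mem_ce]
  constructor
  · rintro ⟨hv, h1⟩
    exact (h.fix_L hcT hc hm hv).1 h1
  · intro hv
    exact ⟨h.ZU hv, (h.fix_L hcT hc hm (h.ZU hv)).2 hv⟩

/-- `Lin m`, `m² ≠ m`, interchanges the two `EE` -/
theorem cj_EE [Finite G] {t : G} {m : K} (ht : t ∈ T) (hm : Lin e U m t) (hne : m ^ 2 ≠ m) (b : Bool) :
    cj t (h.EE b) = h.EE (!b) := by
  have hm1 : m ^ 2 + m = 1 := by
    rcases tr_cases h.cardK m with h1 | h1
    · exfalso
      apply hne
      have := two_eq h.cardK m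
      linear_combination h1 - this
    · exact h1
  apply eq_of_le_of_card_ge
  · rintro _ ⟨v, hv, rfl⟩
    change t * v * t⁻¹ ∈ _
    obtain ⟨hvU, h1, h2⟩ := hv
    refine ⟨h.cn ht hvU, ?_, ?_⟩
    · rw [hm v hvU]
      exact h1
    · rw [hm v hvU]
      simp only
      rw [sq_add h.cardK]
      have h3 : (m * (e v).2) ^ 2 = m ^ 2 * (e v).2 := by rw [mul_pow, h1]
      rw [h3]
      have h4 : bK K (!b) = bK K b + 1 := by
        rcases bK_not (K := K) b with h4 | h4
        · exact h4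
        · have := two_eq h.cardK (1 : K)
          linear_combination h4 - this
      rw [h4]
      linear_combination h2 + (e v).2 * hm1
  · rw [card_cj, h.card_EE, h.card_EE]

/-- **394's local structure** -/
theorem loc {O : Subgroup G} (hO : O ≤ T) (hB : ∀ t ∈ O, ∀ l, (Lin e U l t ∨ Sem e U l t) → l ^ 2 = l) :
    Loc O U h.DD u where
  card := h.card_U
  ab := h.Uc
  sq := h.U2
  nor o ho v hv := h.cn (hO ho) hv
  zU := h.uU
  z1 := h.u_ne
  DU := fun v hv => hv.1
  Dne := by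
    obtain ⟨w, hw⟩ := exists_w h.cardK
    obtain ⟨v, hv, e1⟩ := h.surj (0, w)
    refine ⟨v, hv, fun h1 => h.ne_of_w hw ?_⟩
    have := h1.2
    rwa [e1] at this
  s1 o ho v hv := by
    refine ⟨mul_mem hv (h.cn (hO ho) hv), ?_⟩
    obtain ⟨l, hl | hl⟩ := h.act o (hO ho)
    · rw [h.commL (hO ho) hl hv]
      simp
    · rw [h.commS (hO ho) hl hv]
      exact h.tr_sq _
  s2 o ho d hd := by
    obtain ⟨l, hl | hl⟩ := h.act o (hO ho)
    · have hl2 := hB o ho l (Or.inl hl)
      refine h.e_u (mul_mem hd.1 (h.cn (hO ho) hd.1)) ?_ ?_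
      · rw [h.commL (hO ho) hl hd.1]
        simp only
        rw [mul_pow, hl2, hd.2]
      · rw [h.commL (hO ho) hl hd.1]
    · have hl2 := hB o ho l (Or.inr hl)
      refine h.e_u (mul_mem hd.1 (h.cn (hO ho) hd.1)) ?_ ?_
      · rw [h.commS (hO ho) hl hd.1]
        simp only
        rw [sq_add h.cardK, h.tr_sq, hd.2, mul_pow, hl2, hd.2]
      · rw [h.commS (hO ho) hl hd.1]
        simp only
        rw [hd.2]
        exact two_eq h.cardK _
  s3 o ho hm v hv hvD := by
    have hy : (e v).2 ^ 2 ≠ (e v).2 := fun h1 => hvD ⟨hv, h1⟩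
    obtain ⟨l, hl | hl⟩ := h.act o (hO ho)
    · have hl2 := hB o ho l (Or.inl hl)
      have hl1 : l = 1 := by
        rcases eq_of_sq_eq l hl2 with h1 | h1
        · exfalso
          obtain ⟨v', hv', hne⟩ := hm
          rw [h1] at hl
          exact hne (mem_centralizer_iff.1 ((h.lin_zero (hO ho)).1 hl) v' hv').symm
        · exact h1
      constructor
      · intro h1
        have h2 := h.commL (hO ho) hl hv
        rw [h1, h.e_one, hl1, one_mul] at h2
        have h3 := congrArg Prod.fst h2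
        simp only [Prod.fst_zero] at h3
        apply hy
        rw [← h3]; simp
      · intro h1
        have h2 := h.commL (hO ho) hl hv
        rw [h1, h.eu, hl1, one_mul] at h2
        have h3 := congrArg Prod.fst h2
        simp only at h3
        apply hy
        rw [← h3]; simp
    · constructor
      · intro h1
        have h2 := h.commS (hO ho) hl hv
        rw [h1, h.e_one] at h2
        have h3 := congrArg Prod.snd h2
        simp only [Prod.snd_zero] at h3
        apply hy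
        have := two_eq h.cardK (e v).2
        linear_combination -h3 - this
      · intro h1
        have h2 := h.commS (hO ho) hl hv
        rw [h1, h.eu] at h2
        have h3 := congrArg Prod.snd h2
        simp only at h3
        apply hy
        have := two_eq h.cardK (e v).2
        linear_combination -h3 - this
  c4 o ho hm := by
    obtain ⟨l, hl | hl⟩ := h.act o (hO ho)
    · rw [h.ce_L (hO ho) hl fun h1 => ?_]
      · exact h.card_Z
      · obtain ⟨v', hv', hne⟩ := hm
        rw [h1] at hl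
        exact hne (mem_centralizer_iff.1 ((h.lin_zero (hO ho)).1 hl) v' hv').symm
    · obtain ⟨b, hb⟩ := exists_b (hB o ho l (Or.inr hl))
      rw [← hb] at hl
      rw [h.ce_S (hO ho) hl]
      exact h.card_EE b
  c5 o ho v hv := by
    have hoo : o * o ∈ centralizer (U : Set G) := by
      rw [← h.lin_zero (mul_mem (hO ho) (hO ho))]
      obtain ⟨l, hl | hl⟩ := h.act o (hO ho)
      · have h1 := h.mul_LL hl hl (hO ho)
        rwa [two_eq h.cardK] at h1
      · have h1 := h.mul_SS hl hl (hO ho)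
        rwa [hB o ho l (Or.inr hl), two_eq h.cardK] at h1
    have h1 := mem_centralizer_iff.1 hoo v hv
    have h2 : o * (o * v * o⁻¹) * o⁻¹ = v := by
      calc o * (o * v * o⁻¹) * o⁻¹ = (o * o * v) * o⁻¹ * o⁻¹ := by group
        _ = (v * (o * o)) * o⁻¹ * o⁻¹ := by rw [← h1]
        _ = v := by group
    calc o * (v * (o * v * o⁻¹)) * o⁻¹ = (o * v * o⁻¹) * (o * (o * v * o⁻¹) * o⁻¹) := by group
      _ = (o * v * o⁻¹) * v := by rw [h2]
      _ = v * (o * v * o⁻¹) := h.Uc _ (h.cn (hO ho) hv) v hv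
  s4 o ho o' ho' hce := by
    have fin : ∀ {l : K}, (Lin e U l o ∧ Lin e U l o') ∨ (Sem e U l o ∧ Sem e U l o') →
        ∀ v ∈ U, o * v * o⁻¹ = o' * v * o'⁻¹ := by
      intro l hl v hv
      refine h.eq_of (h.cn (hO ho) hv) (h.cn (hO ho') hv) ?_
      rcases hl with ⟨h1, h2⟩ | ⟨h1, h2⟩ <;> rw [h1 v hv, h2 v hv]
    -- a linear and a semilinear element
    have key : ∀ {o o' : G}, o ∈ T → o' ∈ T → ∀ {l m : K}, Lin e U l o → Sem e U m o' → ce U o = ce U o' → False := by
      intro o o' hoT ho'T l m hl hm hce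
      obtain ⟨w, hw⟩ := exists_w h.cardK
      obtain ⟨v, hv, e1⟩ := h.surj (w, 0)
      have hvZ : v ∈ Z := (h.memZ v hv).2 (by rw [e1])
      have h1 : v ∈ ce U o := by
        refine mem_ce.2 ⟨hv, ?_⟩
        by_cases hl0 : l = 0
        · rw [hl0] at hl
          exact (mem_centralizer_iff.1 ((h.lin_zero hoT).1 hl) v hv).symm
        · exact (h.fix_L hoT hl hl0 hv).2 hvZ
      rw [hce] at h1
      have h2 := (h.fix_S ho'T hm hvZ).1 (mem_ce.1 h1).2
      rw [e1] at h2
      exact h.ne_of_w hw h2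
    obtain ⟨l, hl⟩ := h.act o (hO ho)
    obtain ⟨m, hm⟩ := h.act o' (hO ho')
    rcases hl with hl | hl <;> rcases hm with hm | hm
    · by_cases hl0 : l = 0 <;> by_cases hm0 : m = 0
      · rw [hl0] at hl
        rw [hm0] at hm
        exact fin (Or.inl ⟨hl, hm⟩)
      · exfalso
        rw [h.ce_L (hO ho') hm hm0] at hce
        rw [hl0] at hl
        obtain ⟨v, hv, e1⟩ := h.surj (0, 1)
        have h1 : v ∈ ce U o := mem_ce.2 ⟨hv, (mem_centralizer_iff.1 ((h.lin_zero (hO ho)).1 hl) v hv).symm⟩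
        rw [hce, h.memZ v hv, e1] at h1
        exact one_ne_zero h1
      · exfalso
        rw [h.ce_L (hO ho) hl hl0] at hce
        rw [hm0] at hm
        obtain ⟨v, hv, e1⟩ := h.surj (0, 1)
        have h1 : v ∈ ce U o' := mem_ce.2 ⟨hv, (mem_centralizer_iff.1 ((h.lin_zero (hO ho')).1 hm) v hv).symm⟩
        rw [← hce, h.memZ v hv, e1] at h1
        exact one_ne_zero h1
      · have h1 := (eq_of_sq_eq l (hB o ho l (Or.inl hl))).resolve_left hl0
        have h2 := (eq_of_sq_eq m (hB o' ho' m (Or.inl hm))).resolve_left hm0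
        rw [h1] at hl
        rw [h2] at hm
        exact fin (Or.inl ⟨hl, hm⟩)
    · exact (key (hO ho) (hO ho') hl hm hce).elim
    · exact (key (hO ho') (hO ho) hm hl hce.symm).elim
    · obtain ⟨b, hb⟩ := exists_b (hB o ho l (Or.inr hl))
      obtain ⟨b', hb'⟩ := exists_b (hB o' ho' m (Or.inr hm))
      rw [← hb] at hl
      rw [← hb'] at hm
      rw [h.ce_S (hO ho) hl, h.ce_S (hO ho') hm] at hce
      have h1 := h.EE_inj hce
      rw [← h1] at hm
      exact fin (Or.inr ⟨hl, hm⟩)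

end Crd

end Cfsg.Agent.Omega.OM.FourF

end
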