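import Cfsg.Agent.Mrg.Omega.OM.FourF.Main
import Cfsg.Agent.Mrg.Omega.OM.FourF.Three
import Cfsg.Agent.Mrg.Omega.OM.FourF.Ser
import Cfsg.Agent.Mrg.Omega.OM.Swap.Gen.One
import Cfsg.Agent.Mrg.Omega.OM.Swap.Fam.NoOvM

section


/-!
# (4F) at all stages: the claim for one index over a family of best offenders

`OneF K F T 𝓐 U Z u e` : `F` is a minimal parabolic over its Sylow group `T`, `U = V_j` in the coordinates `e` of helper203
(`Crd`), `𝓐` a family of best offenders on `⟨U^F⟩` (helper394), whose members in `T` act linearly on `U`.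

`OneF.main` : `O²(F)` centralises `Z` or `F` normalises `U`.
-/

set_option autoImplicit false

namespace Cfsg.Agent.Omega.OM.FourF

open Subgroup Cfsg Cfsg.Agent.ZN Cfsg.Agent.ZN.ChoiceBase Cfsg.Agent.ZN.ChoiceSit Cfsg.Agent.Omega.NoFF.Basic
  Cfsg.Agent.Omega.OmThm Cfsg.Agent.Omega.OM.Swap
open Cfsg.Agent.MinSimple.MinParabolic (IsMinPar)
open Cfsg.Agent.MinSimple.VModule (oddGen mem_oddGen le_normalizer_oddGen oddGen_le oddGen_def)
open scoped Pointwise commutatorElement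

universe u

variable {K : Type} [Field K] {G : Type u} [Group G] {F T U Z O : Subgroup G} {u : G} {e : G → K × K}

namespace Crd

variable (h : Crd K T U Z u e)

include h

theorem lin_one_of (hO : O ≤ T) (hn : T ≤ normalizer (O : Set G)) (hf : ∀ l : K, ∃ b ∈ T, Lin e U l b)
    (hs : ∃ s ∈ O, ∃ l, Sem e U l s) : ∃ c ∈ O, Lin e U 1 c := by
  obtain ⟨s, hs, l, hl⟩ := hs
  obtain ⟨w, hw⟩ := exists_w h.cardK
  obtain ⟨a, haT, haw⟩ := hf w
  have hsT : s ∈ T := hO hs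
  have hc : s * a * s⁻¹ * a⁻¹ ∈ O := by
    have h1 : s * a * s⁻¹ * a⁻¹ = s * (a * s⁻¹ * a⁻¹) := by group
    rw [h1]
    exact mul_mem hs ((mem_normalizer_iff.1 (hn haT) _).1 (inv_mem hs))
  refine ⟨_, hc, ?_⟩
  have k0 : s * a * s⁻¹ * a⁻¹ * (a * s) = s * a := by group
  have k1 := h.mul_LS haw hl hsT
  have k2 := h.mul_SL hl haw haT
  obtain ⟨m, hm | hm⟩ := h.act _ (hO hc)
  · have k3 := h.mul_LS hm k1 (mul_mem haT hsT)
    rw [k0] at k3
    have k4 := h.uniq_S k3 k2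
    have k5 : m = 1 := by linear_combination k4 + hw
    rwa [k5] at hm
  · have k3 := h.mul_SS hm k1 (mul_mem haT hsT)
    rw [k0] at k3
    exact (h.not_LS k3 k2).elim

theorem comm_mem' {v c : G} (hv : v ∈ U) (hc : c ∈ O) : v * (c * v * c⁻¹) ∈ (⁅U, O⁆ : Subgroup G) := by
  have h1 : ⁅v, c⁆ ∈ (⁅U, O⁆ : Subgroup G) := commutator_mem_commutator hv hc
  rw [commutatorElement_def] at h1
  have h2 : v * c * v⁻¹ * c⁻¹ = v * (c * v * c⁻¹) := by
    rw [h.inv_eq hv]; group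
  rwa [h2] at h1

/-- `Z = {[v, c]}` -/
theorem exists_comm' {c : G} (hcT : c ∈ T) {m : K} (hc : Lin e U m c) (hm : m ≠ 0) {z : G} (hz : z ∈ Z) :
    ∃ v ∈ U, v * (c * v * c⁻¹) = z := by
  obtain ⟨v, hv, h1⟩ := h.exists_comm hcT hc hm hz
  refine ⟨v, hv, ?_⟩
  rw [h.inv_eq hv] at h1
  rw [← h1]
  exact h.Uc _ hv _ (h.cn hcT hv)

theorem DD_le_of (hO : O ≤ T) (hc : ∃ c ∈ O, Lin e U 1 c) (hs : ∃ s ∈ O, ∃ l, Sem e U l s) : h.DD ≤ ⁅U, O⁆ := by
  obtain ⟨c, hc, hc1⟩ := hc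
  obtain ⟨s, hs, l, hl⟩ := hs
  obtain ⟨w, hw⟩ := exists_w h.cardK
  have hZ : Z ≤ ⁅U, O⁆ := by
    intro z hz
    obtain ⟨v, hv, rfl⟩ := h.exists_comm' (hO hc) hc1 one_ne_zero hz
    exact h.comm_mem' hv hc
  obtain ⟨v₁, hv₁, e1⟩ := h.surj (0, w)
  have h1 := h.comm_mem' hv₁ hs
  set n₁ := v₁ * (s * v₁ * s⁻¹) with hn₁
  have hn₁U : n₁ ∈ U := mul_mem hv₁ (h.cn (hO hs) hv₁)
  have e2 : (e n₁).2 = 1 := by
    rw [hn₁, h.mul v₁ hv₁ _ (h.cn (hO hs) hv₁), hl v₁ hv₁, e1]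
    simp only [Prod.snd_add]
    have := two_eq h.cardK w
    linear_combination hw + this
  rintro v ⟨hv, hv2⟩
  rcases eq_of_sq_eq _ hv2 with h3 | h3
  · exact hZ ((h.memZ v hv).2 h3)
  · have h4 : v * n₁ ∈ Z := by
      rw [h.memZ _ (mul_mem hv hn₁U), h.mul v hv n₁ hn₁U, Prod.snd_add, h3, e2]
      exact two_eq h.cardK 1
    have h5 := mul_mem (hZ h4) (inv_mem h1)
    rwa [mul_inv_cancel_right] at h5

theorem toCo' : Co U Z u e where
  mul := h.mul
  ker := h.inj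
  surj := h.surj
  memZ := fun v => ⟨fun hv => ⟨h.ZU hv, (h.memZ v (h.ZU hv)).1 hv⟩, fun hv => (h.memZ v hv.1).2 hv.2⟩
  uW := h.uU
  eu := h.eu

end Crd

/-- The situation for one index over a family of best offenders. -/
structure OneF (K : Type) [Field K] {G : Type u} [Group G] (F T : Subgroup G) (𝓐 : Set (Subgroup G)) (U Z : Subgroup G)
    (u : G) (e : G → K × K) : Prop extends Crd K T U Z u e where
  syl : Syl T F
  par : IsMinPar T F
  UO : U ≤ o2 F
  comm : ∀ x ∈ V U F, ∀ y ∈ V U F, x * y = y * x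
  sq : ∀ x ∈ V U F, x * x = 1
  uF : ∀ f ∈ F, f * u = u * f
  fam : Swap.Fam.Fm F (V U F) 𝓐
  nJ : ∃ A ∈ 𝓐, A ≤ T ∧ ¬ A ≤ o2 F
  /-- the members in `T` act linearly -/
  lin : ∀ A ∈ 𝓐, A ≤ T → ∀ a ∈ A, ∃ l, Lin e U l a
  full : ∀ l : K, ∃ b ∈ T, Lin e U l b

/-- The situation of a counterexample. -/
structure OneB (K : Type) [Field K] {G : Type u} [Group G] (F T F₀ : Subgroup G) (𝓐 : Set (Subgroup G))
    (U Z : Subgroup G) (u : G) (e : G → K × K) : Prop extends OneF K F T 𝓐 U Z u e where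
  F₀F : F₀ < F
  max : ∀ K : Subgroup G, T ≤ K → K < F → K ≤ F₀
  nU : ¬ F ≤ normalizer (U : Set G)
  nZ : ¬ F ≤ normalizer (Z : Set G)
  sem : ∃ s ∈ o2 F, ∃ l, Sem e U l s

namespace OneF

variable {𝓐 : Set (Subgroup G)} (h : OneF K F T 𝓐 U Z u e)

include h

theorem O_le [Finite G] : o2 F ≤ T := o2_le_syl h.syl

theorem T_O [Finite G] : T ≤ normalizer (o2 F : Set G) := h.syl.1.trans (ChoiceSit.le_normalizer_o2 F)

/-- `F ≤ N(Z)` gives `O²(F) ≤ C(Z)` -/
theorem odd_cent [CharP K 2] (hF : F ≤ normalizer (Z : Set G)) : oddGen F ≤ centralizer (Z : Set G) := by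
  rw [oddGen_def, closure_le]
  rintro f ⟨hf, ho⟩
  exact mem_centralizer_iff.2 fun z hz =>
    (h.toCrd.toCo'.cent_of_nor h.cardK (hF hf) (h.uF f hf) ho z hz).symm

theorem V_le_O : V U F ≤ o2 F := V_le fun p hp => by
  have h1 : cj p U ≤ cj p (o2 F) := cj_mono p h.UO
  rw [cj_o2_self hp] at h1
  exact h1

theorem U_le : U ≤ V U F := XD.U_le_W

end OneF

namespace OneB

variable {F₀ : Subgroup G} {𝓐 : Set (Subgroup G)} (h : OneB K F T F₀ 𝓐 U Z u e)

include h

theorem TF : T ≤ F := h.syl.1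

theorem le_F₀ {X : Subgroup G} (hT : T ≤ X) (hX : ¬ F ≤ X) : F ⊓ X ≤ F₀ :=
  h.max _ (le_inf h.TF hT) (lt_of_le_of_ne inf_le_left fun h1 => hX (inf_eq_left.1 h1))

theorem TF₀ : T ≤ F₀ := by
  refine h.max T le_rfl (lt_of_le_of_ne h.TF fun h1 => h.par.not_le ?_)
  rw [← h1]
  exact le_normalizer

theorem H4 : F ⊓ normalizer (U : Set G) ≤ F₀ := h.le_F₀ h.TU h.nU

theorem NZ : F ⊓ normalizer (Z : Set G) ≤ F₀ := h.le_F₀ h.toCrd.T_Z h.nZ

theorem H1 {f : G} (hf : f ∈ F) (hz : ∀ z ∈ Z, f * z = z * f) : f ∈ F₀ :=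
  h.NZ ⟨hf, centralizer_le_normalizer _ (mem_centralizer_iff.2 fun z hz' => (hz z hz').symm)⟩

theorem lin1 [Finite G] : ∃ c ∈ o2 F, Lin e U 1 c := h.toCrd.lin_one_of h.O_le h.T_O h.full h.sem

theorem DD_le [Finite G] : h.toCrd.DD ≤ ⁅U, o2 F⁆ := h.toCrd.DD_le_of h.O_le h.lin1 h.sem

/-- helper394's situation -/
theorem one [Finite G] : Swap.Fam.One F T F₀ 𝓐 U (fun _ : Unit => U) (fun _ : Unit => Z) where
  syl := h.syl
  TF₀ := h.TF₀
  F₀F := h.F₀F
  max := h.max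
  fam := h.fam
  nJ := h.nJ
  ne := ⟨()⟩
  UO := h.UO
  TU := h.TU
  comm := h.comm
  sq := h.sq
  sup := iSup_const.symm
  H1 := fun _ f hf hz => h.H1 hf hz
  H2 := fun A hA hAT _ => by
    by_cases h1 : ∃ a ∈ A, ∃ m, m ≠ 0 ∧ Lin e U m a
    · right
      obtain ⟨a, ha, m, hm, hl⟩ := h1
      intro z hz
      obtain ⟨v, hv, e1⟩ := h.toCrd.exists_comm' (hAT ha) hl hm hz
      exact subset_closure ⟨v, hv, a, ha, e1.symm⟩
    · left
      push Not at h1
      intro a ha v hv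
      obtain ⟨l, hl⟩ := h.lin A hA hAT a ha
      have h2 : l = 0 := by
        by_contra h3
        exact h1 a ha l h3 hl
      rw [h2] at hl
      exact (mem_centralizer_iff.1 ((h.toCrd.lin_zero (hAT ha)).1 hl) v hv).symm
  H3 := fun _ => h.toCrd.Z_le_DD.trans h.DD_le
  H4 := h.H4

/-- STEP 1 -/
theorem exists_a [Finite G] : ∃ l : K, l ^ 2 = l ∧ ∃ c ∈ T, Sem e U l c ∧ ∃ a ∈ F, a ∉ F₀ ∧
    ∀ v ∈ U, a * (v * (c * v * c⁻¹)) = v * (c * v * c⁻¹) * a := by
  obtain ⟨c, hc, hc2, ⟨v₀, hv₀, hv₀'⟩, a, ha, haF, hac⟩ := h.one.exists_one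
  obtain ⟨l, hl | hl⟩ := h.act c hc
  · exfalso
    apply haF
    have hl0 : l ≠ 0 := by
      rintro rfl
      exact hv₀' (mem_centralizer_iff.1 ((h.toCrd.lin_zero hc).1 hl) v₀ hv₀).symm
    refine h.H1 ha fun z hz => ?_
    obtain ⟨v, hv, rfl⟩ := h.toCrd.exists_comm' hc hl hl0 hz
    exact hac v hv
  · refine ⟨l, ?_, c, hc, hl, a, ha, haF, hac⟩
    have h3 := h.toCrd.mul_SS hl hl hc
    have h4 : c * c ∈ centralizer (U : Set G) := by
      rw [mem_centralizer_iff]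
      intro v hv
      have h5 := hc2 v hv
      calc v * (c * c) = c * (c * v * c⁻¹) * c⁻¹ * (c * c) := by rw [h5]
        _ = c * c * v := by group
    have h5 := (h.toCrd.lin_zero (mul_mem hc hc)).2 h4
    have h6 := h.toCrd.uniq_L h3 h5
    have := two_eq h.cardK l
    linear_combination h6 - this

/-- the element `d` of `[U, c]` -/
theorem exists_d [Finite G] {w : K} (hw : w ^ 2 = w + 1) : ∃ l : K, l ^ 2 = l ∧ ∃ a ∈ F, a ∉ F₀ ∧ ∃ d ∈ U,
    e d = (l * w ^ 2, 1) ∧ a * d = d * a := by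
  obtain ⟨l, hl, c, hc, hs, a, ha, haF, hac⟩ := h.exists_a
  obtain ⟨v, hv, e1⟩ := h.surj (0, w)
  refine ⟨l, hl, a, ha, haF, _, mul_mem hv (h.toCrd.cn hc hv), ?_, hac v hv⟩
  rw [h.mul v hv _ (h.toCrd.cn hc hv), hs v hv, e1]
  refine Prod.ext ?_ ?_
  · simp
  · simp only [Prod.snd_add]
    have := two_eq h.cardK w
    linear_combination hw + this

end OneB

namespace Crd

variable (h : Crd K T U Z u e)

include h

/-- `DD` has index 2 -/
theorem index_DD : h.DD.relIndex U = 2 := by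
  obtain ⟨w, hw⟩ := exists_w h.cardK
  have hw2 : w ^ 2 ≠ w := by
    rw [hw]
    intro h1
    exact one_ne_zero (add_eq_left.1 h1)
  obtain ⟨a, ha, ea⟩ := h.surj (0, w)
  rw [relIndex_eq_two_iff]
  refine ⟨a, ha, fun b hb => ?_⟩
  by_cases hbD : b ∈ h.DD
  · refine Or.inr ⟨hbD, fun h1 => ?_⟩
    have h2 := mul_mem (inv_mem hbD) h1
    rw [inv_mul_cancel_left] at h2
    have h3 := h2.2
    rw [ea] at h3
    exact hw2 h3
  · refine Or.inl ⟨⟨mul_mem hb ha, ?_⟩, hbD⟩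
    rw [h.mul b hb a ha, ea, Prod.snd_add, sq_add h.cardK]
    have h1 : (e b).2 ^ 2 ≠ (e b).2 := fun h2 => hbD ⟨hb, h2⟩
    have h2 : (e b).2 ^ 2 + (e b).2 = 1 := by
      rcases tr_cases h.cardK (e b).2 with h3 | h3
      · exfalso
        apply h1
        have := two_eq h.cardK (e b).2
        linear_combination h3 - this
      · exact h3
    have := two_eq h.cardK (e b).2
    have h4 := two_eq h.cardK (1 : K)
    simp only
    linear_combination h2 + hw - this + h4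

theorem DD_le_U : h.DD ≤ U := fun _ hv => hv.1

/-- `T` normalises `DD` -/
theorem T_DD : T ≤ normalizer (h.DD : Set G) := by
  have key : ∀ t ∈ T, ∀ v ∈ h.DD, t * v * t⁻¹ ∈ h.DD := by
    rintro t ht v ⟨hv, hv2⟩
    refine ⟨h.cn ht hv, ?_⟩
    obtain ⟨l, hl | hl⟩ := h.act t ht
    · rw [hl v hv]
      exact hv2
    · rw [hl v hv]
      simp only
      rw [hv2, hv2]
  intro t ht
  rw [mem_normalizer_iff]
  intro v
  refine ⟨key t ht v, fun h1 => ?_⟩
  have h2 := key t⁻¹ (inv_mem ht) _ h1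
  have h3 : t⁻¹ * (t * v * t⁻¹) * t⁻¹⁻¹ = v := by group
  rwa [h3] at h2

/-- `DD ≤ X` if `Z ≤ X` and `X` contains an element of `DD - Z` -/
theorem DD_le_of_mem {X : Subgroup G} (hZ : Z ≤ X) {d : G} (hd : d ∈ U) (hd2 : (e d).2 = 1) (hdX : d ∈ X) : h.DD ≤ X := by
  rintro v ⟨hv, hv2⟩
  rcases eq_of_sq_eq _ hv2 with h3 | h3
  · exact hZ ((h.memZ v hv).2 h3)
  · have h4 : v * d ∈ Z := by
      rw [h.memZ _ (mul_mem hv hd), h.mul v hv d hd, Prod.snd_add, h3, hd2]
      exact two_eq h.cardK 1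
    have h5 := mul_mem (hZ h4) (inv_mem hdX)
    rwa [mul_inv_cancel_right] at h5

/-- an element trivial on `DD`, with parameters in the prime field, is trivial on `U` -/
theorem cent_of_DD {t : G} (ht : t ∈ T) (h1 : ∀ v ∈ h.DD, t * v = v * t) :
    t ∈ centralizer (U : Set G) := by
  obtain ⟨w, hw⟩ := exists_w h.cardK
  obtain ⟨l, hl | hl⟩ := h.act t ht
  · obtain ⟨v, hv, e1⟩ := h.surj (0, 1)
    have h2 := hl v hv
    have h3 : t * v * t⁻¹ = v := by
      rw [h1 v ⟨hv, by rw [e1]; simp⟩, mul_inv_cancel_right]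
    rw [h3, e1] at h2
    have h4 : l = 0 := by
      have := congrArg Prod.fst h2
      simpa using this.symm
    rw [h4] at hl
    exact (h.lin_zero ht).1 hl
  · exfalso
    obtain ⟨v, hv, e1⟩ := h.surj (w, 0)
    have h2 := hl v hv
    have h3 : t * v * t⁻¹ = v := by
      rw [h1 v ⟨hv, by rw [e1]; simp⟩, mul_inv_cancel_right]
    rw [h3, e1] at h2
    have h4 := congrArg Prod.fst h2
    simp only [ne_eq, OfNat.ofNat_ne_zero, not_false_eq_true, zero_pow, mul_zero, add_zero] at h4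
    rw [hw] at h4
    exact one_ne_zero (left_eq_add.1 h4)

end Crd

namespace OneB

variable {F₀ : Subgroup G} {𝓐 : Set (Subgroup G)} (h : OneB K F T F₀ 𝓐 U Z u e)

include h

/-- case `Z ≤ U ⊓ U^a` : `F` normalises `DD` -/
theorem F_DD [Finite G] {a : G} (ha : a ∈ F) (haF : a ∉ F₀) {d : G} (hd : d ∈ U) (hd2 : (e d).2 = 1)
    (had : a * d = d * a) (hZ : Z ≤ cj a U) : F ≤ normalizer (h.toCrd.DD : Set G) := by
  set D := h.toCrd.DD with hD
  have hda : d ∈ cj a U := ⟨d, hd, by show a * d * a⁻¹ = d; rw [had]; group⟩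
  have hDa : D ≤ cj a U := h.toCrd.DD_le_of_mem hZ hd hd2 hda
  have hi2 := h.toCrd.index_DD
  have hDU := h.toCrd.DD_le_U
  -- `DD = U ⊓ U^a`
  have hI : U ⊓ cj a U ≤ D := by
    rintro x ⟨hx, hxa⟩
    by_contra hxD
    apply haF
    have h1 : U ≤ cj a U := by
      intro v hv
      by_cases hvD : v ∈ D
      · exact hDa hvD
      · have h2 := (mul_mem_iff_of_index_two hi2 (a := ⟨v, hv⟩) (b := ⟨x, hx⟩)).2
          ⟨fun h => absurd h hvD, fun h => absurd h hxD⟩
        have h3 : v * x ∈ D := h2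
        have h4 := mul_mem (hDa h3) (inv_mem hxa)
        rwa [mul_inv_cancel_right] at h4
    have h2 : U = cj a U := eq_of_le_of_card_ge h1 (by rw [card_cj])
    exact h.H4 ⟨ha, mem_normalizer_iff_cj.2 h2.symm⟩
  have hia : D.relIndex (cj a U) = 2 := by
    have h1 := card_mul_relIndex hDU
    have h2 := card_mul_relIndex hDa
    rw [card_cj, ← h1, hi2] at h2
    exact Nat.eq_of_mul_eq_mul_left Nat.card_pos h2
  -- `[U^a, O] ≤ DD`
  have hOU : o2 F ≤ normalizer ((cj a U : Subgroup G) : Set G) := by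
    rw [← cj_normalizer]
    have := cj_mono a (h.O_le.trans h.TU)
    rwa [cj_o2_self ha] at this
  have hOD : o2 F ≤ normalizer (D : Set G) := h.O_le.trans h.toCrd.T_DD
  have hcom : ⁅cj a U, o2 F⁆ ≤ D := by
    rw [commutator_le]
    intro x hx o ho
    have hoxW : o * x * o⁻¹ ∈ cj a U := (mem_normalizer_iff.1 (hOU ho) x).1 hx
    have e : x * (o * x * o⁻¹)⁻¹ = ⁅x, o⁆ := by rw [commutatorElement_def]; group
    by_cases hxM : x ∈ D
    · rw [← e]
      exact mul_mem hxM (inv_mem ((mem_normalizer_iff.1 (hOD ho) x).1 hxM))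
    · have hox : o * x * o⁻¹ ∉ D := fun h1 => hxM ((mem_normalizer_iff.1 (hOD ho) x).2 h1)
      have h3 := (mul_mem_iff_of_index_two hia (a := ⟨x, hx⟩) (b := ⟨(o * x * o⁻¹)⁻¹, inv_mem hoxW⟩)).2
        ⟨fun h => absurd h hxM, fun h => absurd (by
          have := inv_mem h
          rw [mem_subgroupOf] at this
          simpa using this) hox⟩
      rw [mem_subgroupOf] at h3
      rw [← e]
      exact h3
  have haD : cj a D = D := by
    refine eq_of_le_of_card_ge ?_ (by rw [card_cj])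
    refine (cj_mono a h.DD_le).trans ?_
    have h4 : cj a (⁅U, o2 F⁆ : Subgroup G) = ⁅cj a U, cj a (o2 F)⁆ := map_commutator _ _ _
    rw [h4, cj_o2_self ha]
    exact hcom
  by_contra hcon
  exact haF (h.le_F₀ h.toCrd.T_DD hcon ⟨ha, mem_normalizer_iff_cj.2 haD⟩)

/-- the uniserial case -/
theorem uni_false [Finite G] {c : G} (hc : c ∈ o2 F) {l : K} (hcl : Sem e U l c) (hl : l ^ 2 ≠ l)
    (hF : F ≤ normalizer (h.toCrd.DD : Set G)) : False := by
  apply h.nZ
  intro f hf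
  have hcT := h.O_le hc
  have hX : cj f Z ≤ U := by
    refine (cj_mono f h.toCrd.Z_le_DD).trans ?_
    rw [cj_eq_of_mem_normalizer (hF hf)]
    exact h.toCrd.DD_le_U
  have h1 := h.toCrd.ser hcT hcl hl hX (fun x hx => ?_) (by rw [card_cj, h.toCrd.card_Z]; norm_num)
  · have h2 : Z = cj f Z := eq_of_le_of_card_ge h1 (by rw [card_cj])
    exact mem_normalizer_iff_cj.2 h2.symm
  · have h2 : c ∈ normalizer ((cj f Z : Subgroup G) : Set G) := by
      rw [← cj_normalizer]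
      have h3 := cj_mono f (h.O_le.trans h.toCrd.T_Z)
      rw [cj_o2_self hf] at h3
      exact h3 hc
    exact (mem_normalizer_iff.1 h2 x).1 hx

/-- a normal subgroup of `F` inside `F₀` meets `T` in `O` -/
theorem core_le [Finite G] {N : Subgroup G} (hN : N ≤ F) (hn : F ≤ normalizer (N : Set G)) (h0 : N ≤ F₀) :
    T ⊓ N ≤ o2 F := by
  have : Fact (Nat.Prime 2) := ⟨Nat.prime_two⟩
  rcases h.par.sup_eq_or_inf_le (p := 2) h.syl.2.1 (syl_not_dvd h.syl) hN hn with h1 | h1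
  · exact absurd (h1.ge.trans (sup_le h0 h.TF₀)) h.F₀F.not_ge
  · exact h1

theorem T_cent_DD [Finite G] (hF : F ≤ normalizer (h.toCrd.DD : Set G)) :
    T ⊓ centralizer (h.toCrd.DD : Set G) ≤ o2 F := by
  have h1 := h.core_le (N := F ⊓ centralizer (h.toCrd.DD : Set G)) inf_le_left ?_ ?_
  · exact fun x hx => h1 ⟨hx.1, h.TF hx.1, hx.2⟩
  · intro f hf
    rw [mem_normalizer_iff_cj, cj_inf, cj_centralizer, cj_eq_of_mem_normalizer (hF hf),
      cj_eq_of_mem_normalizer (le_normalizer hf)]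
  · rintro f ⟨hf, hc⟩
    exact h.H1 hf fun z hz => (mem_centralizer_iff.1 hc z (h.toCrd.Z_le_DD hz)).symm

/-- a member in `T` which moves `U` -/
theorem four_le [Finite G] {A : Subgroup G} (hAT : A ≤ T) {a : G} (ha : a ∈ A) {m : K} (hm : m ≠ 0)
    (hl : Lin e U m a) : 4 ≤ (centralizer (A : Set G)).relIndex U := by
  have c4 : Nat.card K = 4 := h.cardK
  choose g hgU hge using fun y : K => h.surj (0, y)
  have h1 := card_le_relIndex (H := centralizer (A : Set G)) (L := U) g hgU (fun x y hxy => by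
    have hU : (g x)⁻¹ * g y ∈ U := mul_mem (inv_mem (hgU x)) (hgU y)
    have k1 := (h.toCrd.fix_L (hAT ha) hl hm hU).1 (mem_centralizer_iff.1 hxy a ha)
    have k3 := (h.memZ _ hU).1 k1
    rw [h.toCrd.e_diff (hgU x) (hgU y), hge, hge, Prod.snd_add] at k3
    have := two_eq h.cardK y
    linear_combination k3 - this)
  rwa [c4] at h1

/-- `{f ∈ F | [Λ, f] ≤ D}` -/
def N2 (h : OneB K F T F₀ 𝓐 U Z u e) : Subgroup G where
  carrier := {f | f ∈ F ∧ ∀ x ∈ V U F, x * (f * x * f⁻¹) ∈ h.toCrd.DD}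
  one_mem' := ⟨one_mem _, fun x hx => by
    rw [one_mul, inv_one, mul_one, h.sq x hx]; exact one_mem _⟩
  mul_mem' := by
    rintro f g ⟨hf, hf'⟩ ⟨hg, hg'⟩
    refine ⟨mul_mem hf hg, fun x hx => ?_⟩
    have hy : g * x * g⁻¹ ∈ V U F := (mem_normalizer_iff.1 (XD.X_le_normalizer_W hg) x).1 hx
    have h1 := mul_mem (hg' x hx) (hf' _ hy)
    have e1 : x * (g * x * g⁻¹) * (g * x * g⁻¹ * (f * (g * x * g⁻¹) * f⁻¹)) =
        x * ((g * x * g⁻¹) * (g * x * g⁻¹)) * (f * (g * x * g⁻¹) * f⁻¹) := by group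
    rw [e1, h.sq _ hy, mul_one] at h1
    have e2 : f * (g * x * g⁻¹) * f⁻¹ = f * g * x * (f * g)⁻¹ := by group
    rwa [e2] at h1
  inv_mem' := by
    rintro f ⟨hf, hf'⟩
    refine ⟨inv_mem hf, fun x hx => ?_⟩
    have hy : f⁻¹ * x * f⁻¹⁻¹ ∈ V U F := (mem_normalizer_iff.1 (XD.X_le_normalizer_W (inv_mem hf)) x).1 hx
    have h1 := hf' _ hy
    have e1 : f * (f⁻¹ * x * f⁻¹⁻¹) * f⁻¹ = x := by group
    rw [e1, h.comm _ hy _ hx] at h1
    exact h1

theorem mem_N2 {f : G} : f ∈ h.N2 ↔ f ∈ F ∧ ∀ x ∈ V U F, x * (f * x * f⁻¹) ∈ h.toCrd.DD := Iff.rfl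

/-- if `F` normalises `DD` then all elements of `F` outside... -/
theorem DD_false [Finite G] (hF : F ≤ normalizer (h.toCrd.DD : Set G)) : False := by
  classical
  have : Fact (Nat.Prime 2) := ⟨Nat.prime_two⟩
  obtain ⟨A, hA, hAT, hAO⟩ := h.nJ
  have c4 : Nat.card K = 4 := h.cardK
  have := finite_of_card h.cardK
  have hcD := h.T_cent_DD hF
  -- a member moves `U`
  obtain ⟨a₁, ha₁, m, hm, hl₁⟩ : ∃ a ∈ A, ∃ m, m ≠ 0 ∧ Lin e U m a := by
    by_contra hcon
    push Not at hcon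
    apply hAO
    intro a ha
    obtain ⟨l, hl⟩ := h.lin A hA hAT a ha
    have h2 : l = 0 := by
      by_contra h3
      exact hcon a ha l h3 hl
    rw [h2] at hl
    exact hcD ⟨hAT ha, centralizer_le (by exact_mod_cast h.toCrd.DD_le_U) ((h.toCrd.lin_zero (hAT ha)).1 hl)⟩
  have c2 := h.four_le hAT ha₁ hm hl₁
  -- `|A : C_A(Λ)| ≤ 4`
  have c1 : (centralizer (V U F : Set G)).relIndex A ≤ 4 := by
    have h1 := relIndex_le_card (H := centralizer (V U F : Set G)) (L := A)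
      (fun t => if h' : ∃ l, Lin e U l t then h'.choose else 0) (fun a ha b hb hab => by
      have k1 := (h.lin A hA hAT a ha).choose_spec
      have k2 := (h.lin A hA hAT b hb).choose_spec
      simp only [dif_pos (h.lin A hA hAT a ha), dif_pos (h.lin A hA hAT b hb)] at hab
      rw [hab] at k1
      have k3 := h.toCrd.LL_cent (hAT ha) (hAT hb) k1 k2
      have k4 : a⁻¹ * b ∈ T := mul_mem (inv_mem (hAT ha)) (hAT hb)
      have k5 : a⁻¹ * b ∈ centralizer (h.toCrd.DD : Set G) :=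
        centralizer_le (by exact_mod_cast h.toCrd.DD_le_U) k3
      have k6 : a⁻¹ * b ∈ o2 F := hcD ⟨k4, k5⟩
      set t := a⁻¹ * b with ht
      have k7 : V U F ≤ centralizer ({t} : Set G) := by
        refine V_le fun f hf => ?_
        rintro _ ⟨x, hx, rfl⟩
        rw [mem_centralizer_singleton_iff]
        show f * x * f⁻¹ * t = t * (f * x * f⁻¹)
        have k8 : f⁻¹ * t * f ∈ o2 F := by
          have := (mem_normalizer_iff.1 (ChoiceSit.le_normalizer_o2 F (inv_mem hf)) t).1 k6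
          rwa [inv_inv] at this
        have k9 := h.toCrd.cent_of_DD (h.O_le k8) (fun v hv => by
          have hfv : f * v * f⁻¹ ∈ h.toCrd.DD := (mem_normalizer_iff.1 (hF hf) v).1 hv
          have := mem_centralizer_iff.1 k5 _ hfv
          calc f⁻¹ * t * f * v = f⁻¹ * (t * (f * v * f⁻¹)) * f := by group
            _ = f⁻¹ * (f * v * f⁻¹ * t) * f := by rw [this]
            _ = v * (f⁻¹ * t * f) := by group)
        have k10 := mem_centralizer_iff.1 k9 x hx
        calc f * x * f⁻¹ * t = f * (x * (f⁻¹ * t * f)) * f⁻¹ := by group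
          _ = f * (f⁻¹ * t * f * x) * f⁻¹ := by rw [k10]
          _ = t * (f * x * f⁻¹) := by group
      exact mem_centralizer_iff.2 fun x hx => mem_centralizer_singleton_iff.1 (k7 hx))
    rwa [c4] at h1
  have c3 := h.fam.off A hA (V U F) le_rfl
  -- `Λ = U C_Λ(A)`
  set Cx : Subgroup G := V U F ⊓ centralizer (A : Set G) with hCx
  have hcom : ∀ x ∈ U, ∀ y ∈ Cx, x * y = y * x := fun x hx y hy => h.comm x (h.U_le hx) y hy.1
  have hsup : V U F ≤ U ⊔ Cx := by
    have h1 := card_mul hcom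
    have h2 : U ⊓ Cx = centralizer (A : Set G) ⊓ U :=
      le_antisymm (fun x hx => ⟨hx.2.2, hx.1⟩) fun x hx => ⟨hx.2, h.U_le hx.2, hx.1⟩
    have h3 : Nat.card ↥(centralizer (A : Set G) ⊓ U) * (centralizer (A : Set G)).relIndex U = Nat.card U := by
      rw [← inf_relIndex_right]
      exact card_mul_relIndex inf_le_right
    have h4 : Nat.card Cx * (centralizer (A : Set G)).relIndex (V U F) = Nat.card (V U F) := by
      rw [hCx, inf_comm, ← inf_relIndex_right]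
      exact card_mul_relIndex inf_le_right
    rw [h2, ← h3] at h1
    have p1 : 0 < Nat.card ↥(centralizer (A : Set G) ⊓ U) := Nat.card_pos
    have h5 : Nat.card ↥(U ⊔ Cx) = (centralizer (A : Set G)).relIndex U * Nat.card Cx := by
      refine Nat.eq_of_mul_eq_mul_right p1 ?_
      rw [h1]; ring
    have h6 : Nat.card (V U F) ≤ Nat.card ↥(U ⊔ Cx) := by
      rw [h5, ← h4, mul_comm]
      exact Nat.mul_le_mul_right _ ((c3.trans c1).trans c2)
    have h7 : U ⊔ Cx ≤ V U F := sup_le h.U_le inf_le_left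
    exact (eq_of_le_of_card_ge h7 h6).ge
  have hAN : A ≤ h.N2 := by
    intro a ha
    refine ⟨h.TF (hAT ha), fun x hx => ?_⟩
    obtain ⟨v, hv, y, hy, rfl⟩ := SQ1.Bau.mem_sup_comm hcom (hsup hx)
    have hya : a * y * a⁻¹ = y := by
      rw [mem_centralizer_iff.1 hy.2 a ha, mul_inv_cancel_right]
    have hav := h.toCrd.cn (hAT ha) hv
    have e1 : v * y * (a * (v * y) * a⁻¹) = v * (a * v * a⁻¹) := by
      calc v * y * (a * (v * y) * a⁻¹) = v * (y * (a * v * a⁻¹)) * (a * y * a⁻¹) := by group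
        _ = v * ((a * v * a⁻¹) * y) * y := by rw [hya, hcom _ hav y hy]
        _ = v * (a * v * a⁻¹) * (y * y) := by group
        _ = v * (a * v * a⁻¹) := by rw [h.sq y hy.1, mul_one]
    rw [e1]
    apply h.toCrd.Z_le_DD
    obtain ⟨l, hl⟩ := h.lin A hA hAT a ha
    rw [h.memZ _ (mul_mem hv hav), h.mul v hv _ hav, hl v hv, Prod.snd_add]
    exact two_eq h.cardK _
  rcases h.par.sup_eq_or_inf_le (p := 2) h.syl.2.1 (syl_not_dvd h.syl) (N := h.N2) (fun f hf => hf.1) (fun f hf => by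
    have key : ∀ f ∈ F, ∀ n ∈ h.N2, f * n * f⁻¹ ∈ h.N2 := by
      rintro f hf n ⟨hn, hn'⟩
      refine ⟨mul_mem (mul_mem hf hn) (inv_mem hf), fun x hx => ?_⟩
      have hy : f⁻¹ * x * f⁻¹⁻¹ ∈ V U F := (mem_normalizer_iff.1 (XD.X_le_normalizer_W (inv_mem hf)) x).1 hx
      have h1 := (mem_normalizer_iff.1 (hF hf) _).1 (hn' _ hy)
      have e1 : f * (f⁻¹ * x * f⁻¹⁻¹ * (n * (f⁻¹ * x * f⁻¹⁻¹) * n⁻¹)) * f⁻¹ =
          x * (f * n * f⁻¹ * x * (f * n * f⁻¹)⁻¹) := by group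
      rwa [e1] at h1
    rw [mem_normalizer_iff]
    intro n
    refine ⟨key f hf n, fun h1 => ?_⟩
    have h2 := key f⁻¹ (inv_mem hf) _ h1
    have h3 : f⁻¹ * (f * n * f⁻¹) * f⁻¹⁻¹ = n := by group
    rwa [h3] at h2) with h1 | h1
  · apply h.nU
    rw [← h1]
    refine sup_le ?_ h.TU
    have key : ∀ f ∈ h.N2, ∀ v ∈ U, f * v * f⁻¹ ∈ U := by
      rintro f ⟨hf, hf'⟩ v hv
      have h2 := h.toCrd.DD_le_U (hf' v (h.U_le hv))
      have h3 := mul_mem (inv_mem hv) h2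
      rwa [inv_mul_cancel_left] at h3
    intro f hf
    rw [mem_normalizer_iff]
    intro v
    refine ⟨key f hf v, fun h1 => ?_⟩
    have h2 := key f⁻¹ (inv_mem hf) _ h1
    have h3 : f⁻¹ * (f * v * f⁻¹) * f⁻¹⁻¹ = v := by group
    rwa [h3] at h2
  · exact hAO fun a ha => h1 ⟨hAT ha, hAN ha⟩

end OneB

namespace Crd

variable (h : Crd K T U Z u e)

include h

/-- `Z ≤ X` if `X` contains `u` and an element of `Z - ⟨u⟩` -/
theorem Z_le_of {X : Subgroup G} (hu : u ∈ X) {y : G} (hy : y ∈ X) (hyZ : y ∈ Z) (hne : (e y).1 ^ 2 ≠ (e y).1) :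
    Z ≤ X := by
  intro z hz
  have hzU := h.ZU hz
  have hyU := h.ZU hyZ
  have hz2 := (h.memZ z hzU).1 hz
  have hy2 := (h.memZ y hyU).1 hyZ
  have h1u : ∀ v ∈ U, (e v).1 ^ 2 = (e v).1 → (e v).2 = 0 → v ∈ X := by
    intro v hv h1 h2
    rcases h.e_u hv h1 h2 with h3 | h3
    · rw [h3]; exact one_mem _
    · rw [h3]; exact hu
  have hy1 : (e y).1 ^ 2 + (e y).1 = 1 := by
    rcases tr_cases h.cardK (e y).1 with h3 | h3
    · exfalso
      apply hne
      have := two_eq h.cardK (e y).1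
      linear_combination h3 - this
    · exact h3
  rcases tr_cases h.cardK (e z).1 with h3 | h3
  · refine h1u z hzU ?_ hz2
    have := two_eq h.cardK (e z).1
    linear_combination h3 - this
  · have h4 : z * y ∈ X := by
      refine h1u _ (mul_mem hzU hyU) ?_ ?_
      · rw [h.mul z hzU y hyU, Prod.fst_add, sq_add h.cardK]
        have k1 := two_eq h.cardK (e z).1
        have k2 := two_eq h.cardK (e y).1
        have k3 := two_eq h.cardK (1 : K)
        linear_combination h3 + hy1 - k1 - k2 + k3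
      · rw [h.mul z hzU y hyU, Prod.snd_add, hz2, hy2, add_zero]
    have h5 := mul_mem h4 (inv_mem hy)
    rwa [mul_inv_cancel_right] at h5

end Crd

namespace OneB

variable {F₀ : Subgroup G} {𝓐 : Set (Subgroup G)} (h : OneB K F T F₀ 𝓐 U Z u e)

include h

theorem u_cj {a : G} (ha : a ∈ F) : u ∈ cj a U :=
  ⟨u, h.uU, by show a * u * a⁻¹ = u; rw [h.uF a ha]; group⟩

theorem O_cj [Finite G] {a : G} (ha : a ∈ F) : o2 F ≤ normalizer ((cj a U : Subgroup G) : Set G) := by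
  rw [← cj_normalizer]
  have := cj_mono a (h.O_le.trans h.TU)
  rwa [cj_o2_self ha] at this

/-- the intersection -/
theorem inter [Finite G] {w : K} (hw : w ^ 2 = w + 1) {a : G} (ha : a ∈ F) {b : Bool} {d : G} (hd : d ∈ U)
    (ed : e d = (bK K b * w ^ 2, 1)) (hda : d ∈ cj a U) (hZ : ¬ Z ≤ cj a U) : h.toCrd.EE b = U ⊓ cj a U := by
  have hua := h.u_cj ha
  have hb := bK_sq (K := K) b
  have hw4 : w ^ 4 = w := pow_four h.cardK w
  have h2 := two_eq h.cardK
  have h1u : ∀ v ∈ U, (e v).1 ^ 2 = (e v).1 → (e v).2 = 0 → v ∈ cj a U := by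
    intro v hv h1 h2
    rcases h.toCrd.e_u hv h1 h2 with h3 | h3
    · rw [h3]; exact one_mem _
    · rw [h3]; exact hua
  apply le_antisymm
  · rintro v ⟨hv, hv2, hv1⟩
    refine ⟨hv, ?_⟩
    rcases eq_of_sq_eq _ hv2 with h3 | h3
    · refine h1u v hv ?_ h3
      rw [h3, mul_zero] at hv1
      linear_combination hv1 - h2 (e v).1
    · have h4 : v * d ∈ cj a U := by
        refine h1u _ (mul_mem hv hd) ?_ ?_
        · rw [h.mul v hv d hd, ed, Prod.fst_add, sq_add h.cardK]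
          rw [h3, mul_one] at hv1
          have k1 := h2 (e v).1
          have k2 := h2 (bK K b * w ^ 2)
          have k3 := h2 (bK K b)
          have k4 := h2 (bK K b * w)
          simp only
          linear_combination hv1 - k1 + w ^ 4 * hb + bK K b * hw4 + bK K b * hw - k2 + k3 + k4
        · rw [h.mul v hv d hd, ed, Prod.snd_add, h3]
          exact h2 1
      have h5 := mul_mem h4 (inv_mem hda)
      rwa [mul_inv_cancel_right] at h5
  · rintro x ⟨hx, hxa⟩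
    have key : ∀ y ∈ U, y ∈ cj a U → (e y).2 = 0 → (e y).1 ^ 2 = (e y).1 := by
      intro y hy hya hy2
      by_contra hne
      exact hZ (h.toCrd.Z_le_of hua hya ((h.memZ y hy).2 hy2) hne)
    have hx2 : (e x).2 ^ 2 = (e x).2 := by
      obtain ⟨c, hc, hc1⟩ := h.lin1
      have hcT := h.O_le hc
      have k1 := h.toCrd.commL hcT hc1 hx
      have k2 := key (x * (c * x * c⁻¹)) (mul_mem hx (h.toCrd.cn hcT hx))
        (mul_mem hxa ((mem_normalizer_iff.1 (h.O_cj ha hc) x).1 hxa)) (by rw [k1])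
      rw [k1, one_mul] at k2
      exact k2
    refine ⟨hx, hx2, ?_⟩
    rcases eq_of_sq_eq _ hx2 with h3 | h3
    · rw [key x hx hxa h3, h3, mul_zero]
      exact h2 _
    · have h4 := key (x * d) (mul_mem hx hd) (mul_mem hxa hda) (by
        rw [h.mul x hx d hd, ed, Prod.snd_add, h3]
        exact h2 1)
      rw [h.mul x hx d hd, ed, Prod.fst_add, sq_add h.cardK] at h4
      rw [h3, mul_one]
      have k1 := h2 (e x).1
      have k2 := h2 (bK K b * w ^ 2)
      have k3 := h2 (bK K b)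
      have k4 := h2 (bK K b * w)
      simp only at h4
      linear_combination h4 + k1 - w ^ 4 * hb - bK K b * hw4 - bK K b * hw + k2 - k3 - k4

/-- type `K` -/
theorem two_false [Finite G] {w : K} (hw : w ^ 2 = w + 1)
    (hB : ∀ t ∈ o2 F, ∀ l, (Lin e U l t ∨ Sem e U l t) → l ^ 2 = l) {a : G} (ha : a ∈ F) {b : Bool}
    (hab : h.toCrd.EE b = U ⊓ cj a U) : False := by
  classical
  refine Swap.Fam.Two.false (F := F) (T := T) (𝓐 := 𝓐) (U := U) (D := h.toCrd.DD) (z := u)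
    (E := fun b => h.toCrd.EE b)
    { syl := h.syl
      par := h.par
      fam := h.fam
      nJ := ?_
      TU := h.TU
      UO := h.UO
      comm := h.comm
      sq := h.sq
      nU := h.nU
      loc := h.toCrd.loc h.O_le hB
      zF := h.uF
      Ecard := fun b => h.toCrd.card_EE b
      Ene := h.toCrd.EE_ne
      EU := ?_
      cenA := ?_
      non := ?_ }
  · obtain ⟨A, hA, -, hAO⟩ := h.nJ
    exact ⟨A, hA, hAO⟩
  · have h1 : ∃ f ∈ F, h.toCrd.EE (!b) = U ⊓ cj f U := by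
      obtain ⟨t, ht, hl⟩ := h.full w
      have hw2 : w ^ 2 ≠ w := by
        rw [hw]
        intro h1
        exact one_ne_zero (add_eq_left.1 h1)
      refine ⟨t * a, mul_mem (h.TF ht) ha, ?_⟩
      rw [← h.toCrd.cj_EE ht hl hw2 b, hab, cj_inf, cj_cj, cj_eq_of_mem_normalizer (h.TU ht)]
    intro b'
    by_cases hb : b' = b
    · rw [hb]; exact ⟨a, ha, hab⟩
    · have : b' = !b := by cases b' <;> cases b <;> simp at hb ⊢
      rw [this]; exact h1
  · intro A hA hAO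
    by_contra hcon
    push Not at hcon
    obtain ⟨a₀, ha₀, v₀, hv₀, hne⟩ := hcon
    have hAT : A ≤ T := hAO.trans h.O_le
    obtain ⟨m, hm⟩ := h.lin A hA hAT a₀ ha₀
    have hm0 : m ≠ 0 := by
      rintro rfl
      exact hne (mem_centralizer_iff.1 ((h.toCrd.lin_zero (hAT ha₀)).1 hm) v₀ hv₀).symm
    have i1 := h.four_le hAT ha₀ hm0 hm
    have i2 := h.fam.off A hA U h.U_le
    have i3 : (centralizer (U : Set G)).relIndex A ≤ 2 := by
      have h1 := relIndex_le_card (H := centralizer (U : Set G)) (L := A)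
        (fun t => decide (Lin e U 0 t)) (fun x hx y hy hxy => by
        simp only [decide_eq_decide] at hxy
        obtain ⟨l, hl⟩ := h.lin A hA hAT x hx
        obtain ⟨m, hm⟩ := h.lin A hA hAT y hy
        have h3 : l = m := by
          rcases eq_of_sq_eq l (hB x (hAO hx) l (Or.inl hl)) with h4 | h4 <;>
            rcases eq_of_sq_eq m (hB y (hAO hy) m (Or.inl hm)) with h5 | h5
          · rw [h4, h5]
          · exact absurd ((h.toCrd.uniq_L hm (hxy.1 (h4 ▸ hl))).symm.trans h5) (by simp)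
          · exact absurd ((h.toCrd.uniq_L hl (hxy.2 (h5 ▸ hm))).symm.trans h4) (by simp)
          · rw [h4, h5]
        exact h.toCrd.LL_cent (hAT hx) (hAT hy) hl (h3 ▸ hm))
      simpa using h1
    omega
  · by_contra hcon
    push Not at hcon
    apply h.nZ
    rw [← Dich.oddGen_sup_syl h.syl]
    refine sup_le (fun x hx => ?_) h.toCrd.T_Z
    refine centralizer_le_normalizer _ (mem_centralizer_iff.2 fun z hz => ?_)
    have h1 : z ∈ (⁅V U F, o2 F⁆ : Subgroup G) :=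
      commutator_mono h.U_le le_rfl (h.DD_le (h.toCrd.Z_le_DD hz))
    exact hcon z h1 x hx

end OneB

/-- **The claim for one index, all stages.** -/
theorem OneF.main [Finite G] [CharP K 2] {𝓐 : Set (Subgroup G)} (h : OneF K F T 𝓐 U Z u e)
    (hfix : o2 F ≤ centralizer (Z : Set G) → F ≤ centralizer (Z : Set G)) :
    oddGen F ≤ centralizer (Z : Set G) ∨ F ≤ normalizer (U : Set G) := by
  by_contra hcon
  push Not at hcon
  obtain ⟨hodd, hU⟩ := hcon
  have nZ : ¬ F ≤ normalizer (Z : Set G) := fun h1 => hodd (h.odd_cent h1)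
  have sem : ∃ s ∈ o2 F, ∃ l, Sem e U l s := by
    by_contra hcon
    push Not at hcon
    refine nZ ((hfix fun t ht => ?_).trans (centralizer_le_normalizer _))
    obtain ⟨l, hl⟩ := h.act t (h.O_le ht)
    exact h.toCrd.lin_cent (h.O_le ht) (hl.resolve_right (hcon t ht l))
  obtain ⟨F₀, hF₀, hmax⟩ := h.par.exists_max
  have hB : OneB K F T F₀ 𝓐 U Z u e := { h with F₀F := hF₀, max := hmax, nU := hU, nZ := nZ, sem := sem }
  obtain ⟨w, hw⟩ := exists_w h.cardK
  obtain ⟨l, hl, a, ha, haF, d, hd, ed, had⟩ := hB.exists_d hw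
  have hda : d ∈ cj a U := ⟨d, hd, by show a * d * a⁻¹ = d; rw [had]; group⟩
  by_cases hZ : Z ≤ cj a U
  · exact hB.DD_false (hB.F_DD ha haF hd (by rw [ed]) had hZ)
  by_cases hK : ∀ t ∈ o2 F, ∀ l, (Lin e U l t ∨ Sem e U l t) → l ^ 2 = l
  · obtain ⟨b, rfl⟩ := exists_b hl
    exact hB.two_false hw hK ha (hB.inter hw ha hd ed hda hZ)
  -- the uniserial case
  obtain ⟨c, hc, m, hcm, hm⟩ : ∃ c ∈ o2 F, ∃ m, Sem e U m c ∧ m ^ 2 ≠ m := by
    by_contra hcon
    push Not at hcon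
    apply hK
    intro t ht l hl
    rcases hl with hl | hl
    · obtain ⟨s, hs, m, hm⟩ := sem
      have h1 := hcon s hs m hm
      have h2 := hcon _ (mul_mem ht hs) _ (h.toCrd.mul_LS hl hm (h.O_le hs))
      rw [sq_add h.cardK, h1] at h2
      exact add_right_cancel h2
    · exact hcon t ht l hl
  have hua := hB.u_cj ha
  have hXc : ∀ x ∈ U ⊓ cj a U, c * x * c⁻¹ ∈ U ⊓ cj a U := fun x hx =>
    ⟨h.toCrd.cn (h.O_le hc) hx.1, (mem_normalizer_iff.1 (hB.O_cj ha hc) x).1 hx.2⟩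
  have h2 : 2 < Nat.card ↥(U ⊓ cj a U) := by
    have hinj : Function.Injective (![1, ⟨u, h.uU, hua⟩, ⟨d, hd, hda⟩] : Fin 3 → ↥(U ⊓ cj a U)) := by
      have n1 : u ≠ 1 := h.toCrd.u_ne
      have n2 : d ≠ 1 := by
        rintro rfl
        rw [h.toCrd.e_one] at ed
        have := congrArg Prod.snd ed
        simp at this
      have n3 : u ≠ d := by
        rintro rfl
        rw [h.eu] at ed
        have := congrArg Prod.snd ed
        simp at this
      intro i j hij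
      fin_cases i <;> fin_cases j <;> simp [Subtype.ext_iff] at hij ⊢
      · exact n1 hij.symm
      · exact n2 hij.symm
      · exact n1 hij
      · exact n3 hij
      · exact n2 hij
      · exact n3 hij.symm
    have h3 := Nat.card_le_card_of_injective _ hinj
    rw [Nat.card_fin] at h3
    omega
  exact hZ ((h.toCrd.ser (h.O_le hc) hcm hm inf_le_left hXc h2).trans inf_le_right)

end Cfsg.Agent.Omega.OM.FourF

end

section


/-!
# Type `K` gives (4F) (q = 4, all stages): lemma Z4 of helper880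

`X` with Sylow group `T`; `W i ≅ K²`, `|K| = 4`; for every `i`, `X` normalises `W i` or `O²(X)` centralises `Z i`
(`OneF.main`).  If `X` does not normalise `Z i`, then `X ≤ N(W i)` and there is `s ∈ O₂(X)`, semilinear on `W i`, which
centralises `Z j` for all `j ≠ i`: `Thr.zero`.  So outside (4F) `X` normalises all `Z i`: `Thr.nor_of_not`.
-/

set_option autoImplicit false
set_option linter.unusedSectionVars false

namespace Cfsg.Agent.Omega.OM.FourF

open Subgroup Cfsg Cfsg.Agent.ZN.ChoiceBase Cfsg.Agent.ZN.ChoiceSit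
open Cfsg.Agent.ZN (o2)
open Cfsg.Agent.MinSimple.VModule (oddGen oddGen_le mem_oddGen oddGen_def)

/-- `X` is of type `K` at `i`, with the witness `s ∈ O₂(X)` of (4F). -/
structure TyK {G K ι : Type*} [Group G] [Field K] (X : Subgroup G) (W Z : ι → Subgroup G)
    (e : ι → G → K × K) (i : ι) (s : G) : Prop where
  XW : X ≤ normalizer (W i : Set G)
  nZ : ¬ X ≤ normalizer (Z i : Set G)
  sO : s ∈ o2 X
  sem : ∃ l : K, (l = 0 ∨ l = 1) ∧ Act (W i) (e i) s (fun p => (p.1 * p.1 + l * (p.2 * p.2), p.2 * p.2))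
  cent : ∀ j, j ≠ i → ∀ z ∈ Z j, s * z = z * s
  /-- on the `W j` which are normalised by `X` the witness is trivial -/
  centW : ∀ j, j ≠ i → X ≤ normalizer (W j : Set G) → ∀ w ∈ W j, s * w = w * s

namespace Thr

variable {G K ι : Type*} [Group G] [Field K] [CharP K 2] {X T M : Subgroup G} {W Z : ι → Subgroup G} {u : ι → G}
  {e : ι → G → K × K} (h : Thr X T M W Z u e)
include h

/-- if `O²(X)` centralises `Z i`, then `X` normalises it. -/
theorem nor_of_odd [Finite G] {i : ι} (hi : ∀ x ∈ oddGen X, ∀ z ∈ Z i, x * z = z * x) :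
    X ≤ normalizer (Z i : Set G) := by
  rw [← Dich.oddGen_sup_syl h.syl]
  refine sup_le (fun x hx => centralizer_le_normalizer _ ?_) (h.TZ i)
  exact mem_centralizer_iff.2 fun z hz => (hi x hx z hz).symm

/-- **Z4**: type `K` gives the witness of (4F). -/
theorem zero [Finite G] (hor : ∀ i, X ≤ normalizer (W i : Set G) ∨ ∀ x ∈ oddGen X, ∀ z ∈ Z i, x * z = z * x)
    (hfull : ∀ i (l : K), ∃ t ∈ T, Act (W i) (e i) t (fun p => (p.1 + l * p.2, p.2)) ∧
      ∀ j, j ≠ i → ∀ w ∈ W j, t * w = w * t)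
    {i : ι} (hi : ¬ X ≤ normalizer (Z i : Set G)) : ∃ s, TyK X W Z e i s := by
  have hc := h.co i
  have h2 := two0 (K := K)
  have hne : ¬ ∀ x ∈ oddGen X, ∀ z ∈ Z i, x * z = z * x := fun h1 => hi (h.nor_of_odd h1)
  have hW : X ≤ normalizer (W i : Set G) := (hor i).resolve_right hne
  obtain ⟨-, ⟨t₀, ht₀, hA₀⟩, hall⟩ := h.four hW hne
  obtain ⟨om, ho0, ho1⟩ := exists_om h.card
  have hr := root h.card ho0 ho1
  obtain ⟨b, hbT, hbA, hbc⟩ := hfull i om
  have hbX : b ∈ X := h.TX hbT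
  have ht₀T : t₀ ∈ T := h.OT ht₀
  -- the commutator
  set c : G := b * t₀ * b⁻¹ * t₀⁻¹ with hcdef
  have hcO : c ∈ o2 X := mul_mem (conjW (le_normalizer_o2 X hbX) ht₀) (inv_mem ht₀)
  have hcT : c ∈ T := h.OT hcO
  have hcc : ∀ j, j ≠ i → ∀ w ∈ W j, c * w = w * c := by
    intro j hj w hw
    have hbinv : ∀ v ∈ W j, b⁻¹ * v = v * b⁻¹ := fun v hv => comm_inv (hbc j hj v hv)
    have h3 : t₀⁻¹ * w * t₀ ∈ W j := by
      have := conjW (h.TN j (inv_mem ht₀T)) hw
      rwa [inv_inv] at this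
    have e1 : b * t₀ * b⁻¹ * t₀⁻¹ * w = b * t₀ * (b⁻¹ * (t₀⁻¹ * w * t₀)) * t₀⁻¹ := by group
    have e2 : b * t₀ * ((t₀⁻¹ * w * t₀) * b⁻¹) * t₀⁻¹ = (b * w) * (t₀ * b⁻¹ * t₀⁻¹) := by group
    rw [hcdef, e1, hbinv _ h3, e2, hbc j hj w hw]
    group
  -- the action of `c` on `W i`
  have hbN := h.TN i hbT
  have ht₀N := h.TN i ht₀T
  obtain ⟨xb, hxb⟩ := hc.exists_perm hbN
  obtain ⟨xt, hxt⟩ := hc.exists_perm ht₀N
  have hxb' : ∀ p : K × K, xb p = (p.1 + om * p.2, p.2) := by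
    intro p
    obtain ⟨w, hw, rfl⟩ := hc.surj p
    rw [← hxb w hw, hbA w hw]
  have hxt' : ∀ p : K × K, xt p = (p.1 * p.1, p.2 * p.2) := by
    intro p
    obtain ⟨w, hw, rfl⟩ := hc.surj p
    rw [← hxt w hw, hA₀ w hw]
  have hcA : Act (W i) (e i) c (fun p => (p.1 + p.2, p.2)) := by
    have h3 := Co.act_mul (inv_mem ht₀N) (Co.act_mul (inv_mem hbN) (Co.act_mul ht₀N hxb hxt) (Co.act_inv hbN hxb))
      (Co.act_inv ht₀N hxt)
    intro w hw
    rw [hcdef, h3 w hw]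
    have h4 : ∀ p : K × K, xb (xt p) = ((xt (xb p)).1 + (xt (xb p)).2, (xt (xb p)).2) := by
      intro p
      rw [hxb', hxt', hxb', hxt']
      ext
      · simp only
        linear_combination (-(p.2 * p.2)) * hr - (om * p.1 * p.2 + p.2 * p.2) * h2
      · simp only
    have h5 := h4 (xb⁻¹ (xt⁻¹ (e i w)))
    have h6 : xb (xb⁻¹ (xt⁻¹ (e i w))) = xt⁻¹ (e i w) := Equiv.apply_symm_apply xb _
    have h7 : xt (xt⁻¹ (e i w)) = e i w := Equiv.apply_symm_apply xt _
    rw [h6, h7] at h5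
    exact h5
  -- conjugates of `c`
  have hcO' : ∀ x ∈ X, x * c * x⁻¹ ∈ o2 X := fun x hx => conjW (le_normalizer_o2 X hx) hcO
  have key : ∀ x w : G, c * (x⁻¹ * w * x) = (x⁻¹ * w * x) * c → x * c * x⁻¹ * w = w * (x * c * x⁻¹) := by
    intro x w hw
    calc x * c * x⁻¹ * w = x * (c * (x⁻¹ * w * x)) * x⁻¹ := by group
      _ = _ := by rw [hw]; group
  have hcW' : ∀ x ∈ X, ∀ j, j ≠ i → X ≤ normalizer (W j : Set G) → ∀ w ∈ W j,
      x * c * x⁻¹ * w = w * (x * c * x⁻¹) := by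
    intro x hx j hj hXj w hw
    refine key x w (hcc j hj _ ?_)
    have := conjW (inv_mem (hXj hx)) hw
    rwa [inv_inv] at this
  have hcZ' : ∀ x ∈ X, ∀ j, j ≠ i → ∀ z ∈ Z j, x * c * x⁻¹ * z = z * (x * c * x⁻¹) := by
    intro x hx j hj z hz
    rcases hor j with hj1 | hj1
    · exact hcW' x hx j hj hj1 z ((h.co j).ZW hz)
    · refine key x z (hcc j hj _ ((h.co j).ZW ?_))
      have := conjW (inv_mem (h.nor_of_odd hj1 hx)) hz
      rwa [inv_inv] at this
  by_contra hcon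
  apply hi
  intro x hx
  refine mem_normalizer_of_cj_le fun v hv => ?_
  rw [mem_cj] at hv
  -- `c^x` is not semilinear, so it acts as `up 1`
  obtain ⟨l, hl01, hl | hl⟩ := hall _ (hcO' x hx)
  swap
  · exact absurd ⟨_, hW, hi, hcO' x hx, ⟨l, hl01, hl⟩, hcZ' x hx, hcW' x hx⟩ hcon
  have hwW : x⁻¹ * v * x ∈ W i := hc.ZW hv
  have hvW : v ∈ W i := by
    have := conjW (hW hx) hwW
    have e1 : x * (x⁻¹ * v * x) * x⁻¹ = v := by group
    rwa [e1] at this
  -- `c^x` centralises `v`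
  have hcv : x * c * x⁻¹ * v * (x * c * x⁻¹)⁻¹ = v := by
    rw [mul_inv_eq_iff_eq_mul]
    refine key x v (mul_inv_eq_iff_eq_mul.1 ?_)
    refine hc.inj (conjW (h.TN i hcT) hwW) hwW ?_
    have h15 := ((hc.memZ _).1 hv).2
    rw [hcA _ hwW]
    ext
    · simp only [h15, add_zero]
    · rfl
  have h8 := hl v hvW
  rw [hcv] at h8
  have h9 : l * (e i v).2 = 0 := by
    have := congrArg Prod.fst h8
    exact left_eq_add.1 this
  rcases mul_eq_zero.1 h9 with h10 | h10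
  · -- `l = 0`: `c^x` is trivial on `W i`, but `c` is not
    exfalso
    obtain ⟨w, hw, hwe⟩ := hc.surj (0, 1)
    have hw' := conjW (hW hx) hw
    have h11 := hl _ hw'
    have e1 : x * c * x⁻¹ * (x * w * x⁻¹) * (x * c * x⁻¹)⁻¹ = x * (c * w * c⁻¹) * x⁻¹ := by group
    rw [e1, h10] at h11
    have h12 : x * (c * w * c⁻¹) * x⁻¹ = x * w * x⁻¹ := by
      refine hc.inj (conjW (hW hx) (conjW (h.TN i hcT) hw)) hw' ?_
      rw [h11]
      simp
    have h13 : c * w * c⁻¹ = w := mul_left_cancel (mul_right_cancel h12)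
    have h14 := hcA w hw
    rw [h13, hwe] at h14
    have := congrArg Prod.fst h14
    simp at this
  · exact (hc.memZ v).2 ⟨hvW, h10⟩

/-- **outside (4F)** `X` normalises all `Z i`. -/
theorem nor_of_not [Finite G] (hor : ∀ i, X ≤ normalizer (W i : Set G) ∨ ∀ x ∈ oddGen X, ∀ z ∈ Z i, x * z = z * x)
    (hfull : ∀ i (l : K), ∃ t ∈ T, Act (W i) (e i) t (fun p => (p.1 + l * p.2, p.2)) ∧
      ∀ j, j ≠ i → ∀ w ∈ W j, t * w = w * t)
    (hno : ∀ i, ∀ s ∈ T, (∀ j, j ≠ i → ∀ z ∈ Z j, s * z = z * s) →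
      ∀ l : K, ¬ Act (W i) (e i) s (fun p => (p.1 * p.1 + l * (p.2 * p.2), p.2 * p.2))) (i : ι) :
    X ≤ normalizer (Z i : Set G) := by
  by_contra hi
  obtain ⟨s, hs⟩ := h.zero hor hfull hi
  obtain ⟨l, -, hl⟩ := hs.sem
  exact hno i s (h.OT hs.sO) hs.cent l hl

end Thr

end Cfsg.Agent.Omega.OM.FourF

end
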