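import Cfsg.Agent.Mrg.Omega.OM.FourF.Ser
import Cfsg.Agent.Mrg.Omega.OM.FixPt
import Cfsg.Agent.Mrg.Omega.FF.GlobEnd

section


/-!
# THEOREM 4F (#20067): the claim for one index

`F` normalises `Z` or `U`:
* `One.main` : under the hypothesis `Z ≤ C(O₂(F)) → F ≤ N(Z)`;
* `One.main_of` : from the abstract FF theorem and `[Ω₁(Z(T)), F] = 1`.
-/

set_option autoImplicit false

namespace Cfsg.Agent.Omega.OM.FourF

open Subgroup Cfsg Cfsg.Agent.ZN Cfsg.Agent.ZN.ChoiceBase Cfsg.Agent.ZN.ChoiceSit Cfsg.Agent.Omega.NoFF.Basic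
  Cfsg.Agent.Omega.OmThm Cfsg.Agent.Omega.OM.Swap
open Cfsg.Agent.MinSimple.MinParabolic (IsMinPar)
open Cfsg.Agent.MinSimple.VModule (oddGen mem_oddGen le_normalizer_oddGen oddGen_le)
open scoped Pointwise commutatorElement

universe u

variable {K : Type} [Field K] {G : Type u} [Group G] {F T U Z : Subgroup G} {u : G} {e : G → K × K}

namespace Crd

variable (h : Crd K T U Z u e)

include h

/-- `T` normalises `Z` -/
theorem T_Z : T ≤ normalizer (Z : Set G) := by
  have key : ∀ t ∈ T, ∀ z ∈ Z, t * z * t⁻¹ ∈ Z := by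
    intro t ht z hz
    have hzU := h.ZU hz
    have hz2 := (h.memZ z hzU).1 hz
    rw [h.memZ _ (h.cn ht hzU)]
    obtain ⟨l, hl | hl⟩ := h.act t ht
    · rw [hl z hzU]
      exact hz2
    · rw [hl z hzU, hz2]
      simp
  intro t ht
  rw [mem_normalizer_iff]
  intro z
  refine ⟨key t ht z, fun h1 => ?_⟩
  have h2 := key t⁻¹ (inv_mem ht) _ h1
  have h3 : t⁻¹ * (t * z * t⁻¹) * t⁻¹⁻¹ = z := by group
  rwa [h3] at h2

/-- linear elements fix `Z` -/
theorem lin_cent {t : G} (ht : t ∈ T) {l : K} (hl : Lin e U l t) : t ∈ centralizer (Z : Set G) := by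
  rw [mem_centralizer_iff]
  intro z hz
  have hzU := h.ZU hz
  have h3 := hl z hzU
  have hz2 := (h.memZ z hzU).1 hz
  rw [hz2] at h3
  have h4 := h.eq_of (h.cn ht hzU) hzU (by
    rw [h3]
    refine Prod.ext ?_ hz2.symm
    simp)
  rw [mul_inv_eq_iff_eq_mul] at h4
  exact h4.symm

end Crd

namespace One

variable [Finite G] (h : One K F T U Z u e)

include h

/-- **the claim for one index** -/
theorem main (hfix : o2 F ≤ centralizer (Z : Set G) → F ≤ normalizer (Z : Set G)) :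
    F ≤ normalizer (Z : Set G) ∨ F ≤ normalizer (U : Set G) := by
  by_cases h1 : ∃ s ∈ o2 F, ∃ l, Sem e U l s
  · by_cases h2 : ∃ c ∈ o2 F, ∃ l, Sem e U l c ∧ l ^ 2 ≠ l
    · obtain ⟨c, hc, l, h3, h4⟩ := h2
      exact Or.inl (h.F_le_Z hc h3 h4)
    · push Not at h2
      refine Or.inr (h.typeK h1 fun t ht m hm => ?_)
      obtain ⟨s, hs, l, hl⟩ := h1
      rcases hm with hm | hm
      · have h3 := h2 _ (mul_mem ht hs) _ (h.mul_LS hm hl (h.O_le hs))
        rw [sq_add h.cardK, h2 s hs l hl] at h3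
        linear_combination h3
      · exact h2 t ht m hm
  · push Not at h1
    refine Or.inl (hfix fun t ht => ?_)
    obtain ⟨l, hl⟩ := h.act t (h.O_le ht)
    exact h.lin_cent (h.O_le ht) (hl.resolve_right (h1 t ht l))

/-- the case `[Z, O₂(F)] = 1` -/
theorem fix (hA : FFBr.AStmt.{u}) (hz : F ≤ centralizer (zc T : Set G)) (hO : o2 F ≤ centralizer (Z : Set G)) :
    F ≤ normalizer (Z : Set G) := by
  by_cases hJ : jj T ≤ o2 F
  · have h1 : jj (o2 F) = jj T := jj_eq_of_jj_le hJ h.O_le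
    have h2 : F ≤ normalizer (jj T : Set G) := by
      rw [← h1]
      exact (ChoiceSit.le_normalizer_o2 F).trans (normalizer_le_jj _)
    exact fun f hf => h.nJ ⟨hf, h2 hf⟩
  · set Y : Subgroup G := V U F ⊓ centralizer (o2 F : Set G) with hY
    have hZY : Z ≤ Y := le_inf h.Z_le_V (le_centralizer_iff.1 hO)
    have h1 : Y ≤ centralizer (oddGen F : Set G) := by
      refine FixPt.fix_of hA h.syl h.par hJ hz (fun y hy => ?_) ?_ ?_ (inf_le_left.trans h.V_le_O) ?_
      · rw [pow_two]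
        exact h.sq y hy.1
      · intro y hy
        rw [mem_centralizer_iff]
        exact fun x hx => h.comm x hx.1 y hy.1
      · refine NO3b.K0.norm_inf XD.X_le_normalizer_W ?_
        exact (ChoiceSit.le_normalizer_o2 F).trans Dich.norm_cent
      · rw [le_centralizer_iff]
        exact inf_le_right
    have h2 : oddGen F ≤ normalizer (Z : Set G) :=
      (le_centralizer_iff.1 (hZY.trans h1)).trans (centralizer_le_normalizer _)
    rw [← Dich.oddGen_sup_syl h.syl]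
    exact sup_le h2 h.T_Z

theorem main_of (hA : FFBr.AStmt.{u}) (hz : F ≤ centralizer (zc T : Set G)) :
    F ≤ normalizer (Z : Set G) ∨ F ≤ normalizer (U : Set G) := h.main (h.fix hA hz)

end One

end Cfsg.Agent.Omega.OM.FourF

end

section


/-!
# THEOREM 4F (#20047, #20067): the claim for one index, in the form used by the plug
-/

set_option autoImplicit false

namespace Cfsg.Agent.Omega.OM.FourF

open Subgroup Cfsg Cfsg.Agent.ZN

universe u

theorem oneMain : OneMain.{u} := fun _K _ _ _G _ _ _X _T _U _Z _u _e h hfix =>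
  h.main fun hO => (hfix (le_centralizer_iff.1 hO)).trans (centralizer_le_normalizer _)

end Cfsg.Agent.Omega.OM.FourF

end

section


/-!
# The CLAIM of (4F) at stage `-1`, one index

`D : Dt ..`, `|F| = 4`, `T ≤ S` normalises all `Z i`, `X` a minimal parabolic over `T` which centralises `Ω₁Z(T)`:
`neg_main` : `X ≤ N(Z i)` or `X ≤ N(W i)`.
-/

set_option autoImplicit false
set_option linter.unusedSectionVars false

namespace Cfsg.Agent.Omega.EK3.Q.ClaimNeg

open Subgroup Cfsg Cfsg.Agent.ZN.ChoiceBase Cfsg.Agent.ZN.ChoiceSit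
open Cfsg.Agent.ZN (jj zj bau zc zl o2)
open Cfsg.Agent.Lib.SL2Mat Cfsg.Agent.Omega.NatPair
open Cfsg.Agent.Omega.FFThm (NatK ActsSL)
open Cfsg.Agent.Omega.FrameFF (cv)
open Cfsg.Agent.Omega.OM Cfsg.Agent.Omega.OM.YThm Cfsg.Agent.Omega.OM.FourF
open Cfsg.Agent.Omega.OM.YThm.Plug (Dt)
open Cfsg.Agent.Omega.OM.Swap (AA_two mm_two)
open Cfsg.Agent.MinSimple.MinParabolic (IsMinPar)

universe u

variable {G : Type u} [Group G] [Finite G] {S : Sylow 2 G} {P : Subgroup G} {F : Type} [Field F] [Finite F]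
  [CharP F 2] {k : ℕ} {N : NatK F (S : Subgroup G) P (zl (S : Subgroup G) P) (cv (S : Subgroup G) P) k}
  {L W Z C A : Fin k → Subgroup G}

/-- `V` commutes with its conjugates under `X` -/
theorem comm_of (h : Line S P L W Z C A (Nat.card F)) {T X : Subgroup G} (hsyl : Syl T X)
    (hBT : bau (S : Subgroup G) ≤ T) (hV : zl (S : Subgroup G) P ≤ o2 X) {f : G} (hf : f ∈ X)
    {x y : G} (hx : x ∈ zl (S : Subgroup G) P) (hy : y ∈ zl (S : Subgroup G) P) :
    x * (f * y * f⁻¹) = f * y * f⁻¹ * x := by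
  have hTn := Swap.two_norm h hsyl.2.1 hBT
  have hO : o2 X ≤ T := o2_le_syl hsyl
  have hcO : cj f (o2 X) = o2 X := cj_eq_of_mem_normalizer (le_normalizer_o2 X hf)
  have h1 : cj f (zl (S : Subgroup G) P) ≤ normalizer (zl (S : Subgroup G) P : Set G) := by
    have := cj_mono f hV
    rw [hcO] at this
    exact (this.trans hO).trans hTn
  have h2 : zl (S : Subgroup G) P ≤ normalizer ((cj f (zl (S : Subgroup G) P) : Subgroup G) : Set G) := by
    have h3 := cj_mono f ((hO.trans hTn : o2 X ≤ normalizer (zl (S : Subgroup G) P : Set G)))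
    rw [hcO, cj_normalizer] at h3
    exact hV.trans h3
  by_contra hne
  refine h.hyp.noFF ⟨P, P, f, h.hyp.star, h.hyp.star, h2, h1, fun e => hne ?_⟩
  have h4 := commutator_eq_bot_iff_le_centralizer.1 e
  exact (mem_centralizer_iff.1 (h4 hx) (f * y * f⁻¹) ⟨y, hy, rfl⟩).symm

/-- The situation. -/
structure CoreN (D : Dt S P N L W Z C A) (T X : Subgroup G) : Prop where
  hF : Nat.card F = 4
  syl : Syl T X
  BT : bau (S : Subgroup G) ≤ T
  hT : T ≤ (S : Subgroup G)
  par : IsMinPar T X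
  cz : X ≤ centralizer (zc T : Set G)
  TZ : ∀ t ∈ T, ∀ i, cj t (Z i) = Z i
  fx : ∀ i, ∃ z ∈ Z i, z ≠ 1 ∧ ∀ x ∈ X, x * z = z * x

namespace CoreN

variable {D : Dt S P N L W Z C A} {T X : Subgroup G} (c : CoreN D T X) {z₀ f₀ : Fin k → F}
  (m : MD N (bau (S : Subgroup G)) (zj (S : Subgroup G)) W Z z₀ f₀)

include c m

theorem VO : zl (S : Subgroup G) P ≤ o2 X := Swap.V_le_o2 D.line c.syl.2.1 c.BT c.syl.1 c.cz

theorem exists_u (i : Fin k) : ∃ u ∈ Z i, MD.co N z₀ f₀ i u = (1, 0) ∧ ∀ x ∈ X, x * u = u * x := by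
  obtain ⟨u, hu, hue⟩ := m.exists_u i
  refine ⟨u, hu, hue, ?_⟩
  have huW := ((D.mem_Z i u).1 hu).1
  by_cases hs : ∃ t ∈ T, ∃ l : F,
      Act (W i) (MD.co N z₀ f₀ i) t (fun p => (p.1 * p.1 + l * (p.2 * p.2), p.2 * p.2))
  · obtain ⟨t, ht, l, hl⟩ := hs
    obtain ⟨z, hz, hz1, hzX⟩ := c.fx i
    obtain ⟨hzW, hz2⟩ := (m.co_Z (z₀ := z₀) (f₀ := f₀)).1 hz
    have h1 := hl z hzW
    have h2 : t * z * t⁻¹ = z := by rw [hzX t (c.syl.1 ht)]; group
    rw [h2] at h1
    have h3 := congrArg Prod.fst h1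
    simp only [hz2, mul_zero, add_zero] at h3
    have h4 : (MD.co N z₀ f₀ i z).1 ≠ 0 := by
      intro h0
      apply hz1
      refine m.co_inj hzW (one_mem _) ?_
      have h5 := m.co_mul (i := i) (one_mem (zl (S : Subgroup G) P)) (one_mem (zl (S : Subgroup G) P))
      rw [mul_one] at h5
      rw [left_eq_add.1 h5]
      exact Prod.ext h0 hz2
    have h5 : (MD.co N z₀ f₀ i z).1 = 1 := mul_left_cancel₀ h4 (by rw [mul_one]; exact h3.symm)
    have h6 : u = z := m.co_inj huW hzW (by rw [hue]; exact Prod.ext h5.symm hz2.symm)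
    rw [h6]
    exact hzX
  · push Not at hs
    have h1 : ∀ o ∈ T, ∀ z ∈ Z i, o * z = z * o := by
      intro o hoT z hz
      obtain ⟨hzW, hz2⟩ := (m.co_Z (z₀ := z₀) (f₀ := f₀)).1 hz
      obtain ⟨l, hl | hl⟩ := m.act4 c.hF (c.hT hoT) (c.TZ o hoT i)
      · have h3 : o * z * o⁻¹ = z := by
          refine m.co_inj (conjW (m.nW (c.hT hoT) (c.TZ o hoT i)) hzW) hzW ?_
          rw [hl z hzW]
          refine Prod.ext ?_ rfl
          simp [hz2]
        exact mul_inv_eq_iff_eq_mul.1 h3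
      · exact absurd hl (hs o hoT l)
    have h2 : u ∈ zc T := by
      refine mem_zc.2 ⟨c.BT (Swap.zj_le_bau _ (D.line.fr.Z_le i hu)), ?_, fun t ht => h1 t ht u hu⟩
      exact SQ1.Bau.elem_sq D.line.fr.el _ (D.line.fr.ZV i hu)
    exact fun x hx => (mem_centralizer_iff.1 (c.cz hx) u h2).symm

/-- the conjugates of `W i` generate an elementary abelian group -/
theorem ab (i : Fin k) : (∀ x ∈ NoFF.Basic.V (W i) X, ∀ y ∈ NoFF.Basic.V (W i) X, x * y = y * x) ∧
    ∀ x ∈ NoFF.Basic.V (W i) X, x * x = 1 := by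
  have hWV : ∀ w ∈ W i, w ∈ zl (S : Subgroup G) P := fun w hw => m.WV hw
  have key := Swap.elab_iSup (W := fun p : X => cj (p : G) (W i)) (fun f g x hx y hy => ?_) (fun f x hx => ?_)
  · exact key
  · have h1 := comm_of D.line c.syl c.BT (c.VO m) (mul_mem (inv_mem f.2) g.2) (hWV _ (mem_cj.1 hx))
      (hWV _ (mem_cj.1 hy))
    have e1 : (f : G)⁻¹ * g * ((g : G)⁻¹ * y * g) * ((f : G)⁻¹ * g)⁻¹ = (f : G)⁻¹ * y * f := by group
    rw [e1] at h1
    have e2 : (f : G)⁻¹ * x * f * ((f : G)⁻¹ * y * f) = (f : G)⁻¹ * (x * y) * f := by group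
    have e3 : (f : G)⁻¹ * y * f * ((f : G)⁻¹ * x * f) = (f : G)⁻¹ * (y * x) * f := by group
    rw [e2, e3] at h1
    exact mul_left_cancel (mul_right_cancel h1)
  · have h1 := SQ1.Bau.elem_sq D.line.fr.el _ (hWV _ (mem_cj.1 hx))
    have e2 : ((f : G)⁻¹ * x * f) ^ 2 = (f : G)⁻¹ * (x * x) * f := by rw [pow_two]; group
    rw [e2] at h1
    have : x * x = f * ((f : G)⁻¹ * (x * x) * f) * (f : G)⁻¹ := by group
    rw [this, h1]
    group

/-- the structure `One` for the index `i` -/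
theorem one {i : Fin k} {u : G} (hu : u ∈ Z i) (hue : MD.co N z₀ f₀ i u = (1, 0))
    (huX : ∀ x ∈ X, x * u = u * x) : One F X T (W i) (Z i) u (MD.co N z₀ f₀ i) where
  cardK := c.hF
  TU := fun t ht => m.nW (c.hT ht) (c.TZ t ht i)
  Uc := fun v hv w hw => D.line.fr.Vc (m.WV hv) (m.WV hw)
  U2 := fun v hv => by
    rw [← pow_two]
    exact SQ1.Bau.elem_sq D.line.fr.el v (m.WV hv)
  uU := ((D.mem_Z i u).1 hu).1
  eu := hue
  ZU := fun z hz => ((D.mem_Z i z).1 hz).1
  mul := fun v hv w hw => m.co_mul (m.WV hv) (m.WV hw)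
  inj := (m.toCo hu hue).ker
  surj := m.co_surj i
  memZ := fun v hv => by
    rw [(m.toCo hu hue).memZ]
    exact ⟨fun h => h.2, fun h => ⟨hv, h⟩⟩
  act := fun t ht => by
    obtain ⟨l, hl | hl⟩ := m.act4 c.hF (c.hT ht) (c.TZ t ht i)
    · exact ⟨l, Or.inl hl⟩
    · refine ⟨l, Or.inr fun v hv => ?_⟩
      rw [hl v hv]
      simp only [pow_two]
  syl := c.syl
  par := c.par
  UO := fun v hv => c.VO m (m.WV hv)
  comm := (c.ab m i).1
  sq := (c.ab m i).2
  uF := huX
  full := fun A' hA' => by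
    have hAS := AA_two S c.syl.2.1 c.BT hA'
    by_cases hW : A' ≤ centralizer (W i : Set G)
    · exact Or.inl hW
    right
    have hVS : zl (S : Subgroup G) P ≤ (S : Subgroup G) := (Swap.V_le_bau D.line).trans (bau_le _)
    have hWV : W i ≤ zl (S : Subgroup G) P := fun w hw => m.WV hw
    have hoff := FFThm.off_of_AA D.line.fr.el hVS hAS fun h1 => hW (h1.trans (centralizer_le (by exact_mod_cast hWV)))
    obtain ⟨I, hI1, hI2⟩ := N.off A' hAS.2.1 hoff
    have hup : ∀ (a : G) (b : Fin k → F), ActsSL N.e (zl (S : Subgroup G) P) (cv (S : Subgroup G) P) a (fun i => up (b i)) →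
        Lin (MD.co N z₀ f₀ i) (W i) ((z₀ i)⁻¹ * b i * f₀ i) a := by
      intro a b hab v hv
      have h1 := hab.1 v (m.WV hv) i
      have h0 := m.hf i
      refine Prod.ext ?_ ?_
      · rw [MD.co_fst, h1, ap_zero', up_00, up_01]
        show _ = (z₀ i)⁻¹ * N.e v i 0 + (z₀ i)⁻¹ * b i * f₀ i * ((f₀ i)⁻¹ * N.e v i 1)
        field_simp
      · rw [MD.co_snd, h1, ap_one', up_10, up_11, zero_mul, one_mul, zero_add]
        rfl
    have hiI : i ∈ I := by
      by_contra hi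
      apply hW
      intro a ha
      obtain ⟨b, hb, hab⟩ := hI1 a ha
      have h1 := hup a b hab
      rw [hb i hi, mul_zero, zero_mul] at h1
      refine mem_centralizer_iff.2 fun v hv => ?_
      have h2 : a * v * a⁻¹ = v := by
        refine m.co_inj ?_ hv ?_
        · exact conjW (m.nW (hAS.2.1 ha) (c.TZ a (hA'.2.1 ha) i)) hv
        · rw [h1 v hv, zero_mul, add_zero]
      exact (mul_inv_eq_iff_eq_mul.1 h2).symm
    refine ⟨fun a ha => ?_, fun l => ?_⟩
    · obtain ⟨b, hb, hab⟩ := hI1 a ha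
      exact ⟨_, hup a b hab⟩
    · obtain ⟨a, ha, hab⟩ := hI2 (Pi.single i (z₀ i * l * (f₀ i)⁻¹)) fun j hj => by
        rw [Pi.single_eq_of_ne]
        rintro rfl
        exact hj hiI
      refine ⟨a, ha, ?_⟩
      have h1 := hup a _ hab
      rw [Pi.single_eq_same] at h1
      have e1 : (z₀ i)⁻¹ * (z₀ i * l * (f₀ i)⁻¹) * f₀ i = l := by
        have := m.hz i
        have := m.hf i
        field_simp
      rwa [e1] at h1
  ex := by
    have h1 : A i ∈ AA T := by
      rw [mem_AA_iff]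
      refine ⟨D.line.fr.Ael i, (D.line.fr.AB i).trans c.BT, ?_⟩
      rw [mm_two S c.syl.2.1 c.BT, D.line.fr.Am i]
    refine ⟨A i, h1, fun h2 => D.line.fr.Ane i fun a ha v hv => ?_⟩
    exact (mem_centralizer_iff.1 (h2 ha) v hv).symm
  nJ := by
    rintro x ⟨hx, hxJ⟩
    have h1 : x ∈ normalizer (zj (S : Subgroup G) : Set G) := by
      have h2 := LemmaK.Main.jj_eq S c.syl.2.1 c.BT
      rw [h2] at hxJ
      have h7 := normalizer_le_of_cj (F := zj) zj_cj (jj (S : Subgroup G))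
      have h8 : zj (jj (S : Subgroup G)) = zj (S : Subgroup G) :=
        zj_congr (jj_eq_of_jj_le le_rfl (jj_le _))
      rw [h8] at h7
      exact h7 hxJ
    rw [mem_normalizer_iff_cj]
    refine fix_Z D m h1 hu ?_ (huX x hx)
    rintro rfl
    have h2 := m.co_mul (i := i) (one_mem (zl (S : Subgroup G) P)) (one_mem (zl (S : Subgroup G) P))
    rw [mul_one] at h2
    rw [left_eq_add.1 h2] at hue
    exact zero_ne_one (congrArg Prod.fst hue)

end CoreN

/-- **The claim for one index, stage `-1`.** -/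
theorem neg_main {D : Dt S P N L W Z C A} {T X : Subgroup G} (c : CoreN D T X) (i : Fin k) :
    X ≤ normalizer (Z i : Set G) ∨ X ≤ normalizer (W i : Set G) := by
  obtain ⟨z₀, f₀, m⟩ := exists_md D
  obtain ⟨u, hu, hue, huX⟩ := c.exists_u m i
  exact (c.one m hu hue huX).main_of FF.Glob.aStmt c.cz

end Cfsg.Agent.Omega.EK3.Q.ClaimNeg

end

section


/-!
# THEOREM F4 / (4F): final form

* `cent_le` : `C_G(η) ≤ M`;
* `noOm` : (Om) is impossible for `|F| = 4` if `C_G(Z) ≤ C_G(η) N_G(Z_J)` (stage `-1`).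
-/

set_option autoImplicit false
set_option linter.unusedSectionVars false

namespace Cfsg.Agent.Omega.OM.FourF

open Subgroup Cfsg Cfsg.Agent.ZN.ChoiceBase Cfsg.Agent.ZN.ChoiceSit
open Cfsg.Agent.ZN (jj zj bau zc zl o2)
open Cfsg.Agent.Omega.FFThm (NatK)
open Cfsg.Agent.Omega.FrameFF (cv)
open Cfsg.Agent.Omega.OM.YThm
open Cfsg.Agent.Omega.OM.YThm.Plug (Dt)
open Cfsg.Agent.Omega.OM.Dich (K0)
open Cfsg.Agent.Omega.OM.BlkGen (FBlk)

universe u

variable {G : Type u} [Group G] [Finite G] {S : Sylow 2 G} {P : Subgroup G} {F : Type} [Field F] [Finite F]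
  [CharP F 2] {k : ℕ} {N : NatK F (S : Subgroup G) P (zl (S : Subgroup G) P) (cv (S : Subgroup G) P) k}
  {L W Z C A : Fin k → Subgroup G}

/-- **THEOREM F4**: `C_G(η) ≤ M` for `|F| = 4`. -/
theorem cent_le (hFF : FFThm.Stmt.{u}) (hA : FFBr.AStmt.{u}) (D : Dt S P N L W Z C A)
    (hF : Nat.card F = 4) {M : Subgroup G} (hK : K0 (S : Subgroup G) (FBlk (S : Subgroup G)) ≤ M)
    (hN : normalizer (bau (S : Subgroup G) : Set G) ≤ M) (hP : P ≤ M) {E : Subgroup G}
    (hE : E ≤ zj (S : Subgroup G)) (hEi : ∀ i, ∃ z ∈ Z i, z ≠ 1 ∧ z ∈ E) : centralizer (E : Set G) ≤ M :=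
  le_of_four oneMain hFF hA D hF hK hN hP hE hEi

/-- **(Om) is impossible for `|F| = 4`** if `C_G(Z) ≤ C_G(η) N_G(Z_J)` (stage `-1`). -/
theorem noOm (hFF : FFThm.Stmt.{u}) (hA : FFBr.AStmt.{u}) (D : Dt S P N L W Z C A)
    (hF : Nat.card F = 4) (hE : ∃ E : Subgroup G, E ≤ zj (S : Subgroup G) ∧ (∀ i, ∃ z ∈ Z i, z ≠ 1 ∧ z ∈ E) ∧
      FrameNOFF.CZ (S : Subgroup G) ≤ centralizer (E : Set G) ⊔ normalizer (zj (S : Subgroup G) : Set G)) :
    ∀ R : Subgroup G, IsPGroup 2 R → K0 (S : Subgroup G) (FBlk (S : Subgroup G)) ≤ normalizer (R : Set G) →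
      R = ⊥ :=
  noOm_of_four oneMain hFF hA D hF hE

end Cfsg.Agent.Omega.OM.FourF

end
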