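import Cfsg.Agent.Mrg.Omega.OM.Swap.Two
import Cfsg.Agent.Mrg.Omega.OM.FourF.Def

section


/-!
# THEOREM 4F (#20067), (2): type `K`

`F` a minimal parabolic over its Sylow 2-subgroup `T`, `O = O₂(F)`, `U ≤ O` normalised by `T`, `W = ⟨U^F⟩` elementary
abelian, `D ≤ [U, O]`. If every elementary abelian `B ≤ O` satisfies `|B : C_B(U)| ≤ |D : C_D(B)|` (the count) and some
`A ∈ 𝒜(F)` satisfies `[U, A] ≤ D`, `|A : C_A(U)| ≤ |U : C_U(A)|` and `A ∩ O` does not induce all of `A` on `U`, then `F`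
normalises `U`:  `KS.false`.

With `W₁ = ⟨D^F⟩`, `B = C_A(U)`: `|W : C_W(A)| = |A : C_A(W)|` (order of `A`, no over-offender on `W / W₁`, the count);
`C_W(B) = U C_W(A)`; so `|A : A ∩ O| = |W : W₁ U C_W(A)| = |W : W₁ C_W(B)| = |B : B ∩ O|`.
-/

set_option autoImplicit false

namespace Cfsg.Agent.Omega.OM.FourF

open Subgroup Cfsg Cfsg.Agent.ZN Cfsg.Agent.ZN.ChoiceBase Cfsg.Agent.ZN.ChoiceSit Cfsg.Agent.Omega.NoFF.Basic
  Cfsg.Agent.MinSimple.VModule Cfsg.Agent.Omega.OmThm Cfsg.Agent.Omega.OM.Swap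
open Cfsg.Agent.MinSimple.MinParabolic (IsMinPar)
open scoped Pointwise commutatorElement

universe u

variable {G : Type u} [Group G]

theorem cj_relIndex (g : G) (H K : Subgroup G) : (cj g H).relIndex (cj g K) = H.relIndex K :=
  relIndex_map_map_of_injective H K (MulEquiv.injective (MulAut.conj g))

/-- the situation of (2) -/
structure KS (F T U D : Subgroup G) : Prop where
  syl : Syl T F
  par : IsMinPar T F
  TU : T ≤ normalizer (U : Set G)
  UO : U ≤ o2 F
  comm : ∀ x ∈ V U F, ∀ y ∈ V U F, x * y = y * x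
  sq : ∀ x ∈ V U F, x * x = 1
  nU : ¬ F ≤ normalizer (U : Set G)
  DO : D ≤ ⁅U, o2 F⁆
  kc : ∀ B : Subgroup G, B ≤ o2 F → (∀ b ∈ B, ∀ b' ∈ B, b * b' = b' * b) → (∀ b ∈ B, b * b = 1) →
    (centralizer (U : Set G)).relIndex B ≤ (centralizer (B : Set G)).relIndex D
  off : ∃ A ∈ AA F, (centralizer (U : Set G)).relIndex A ≤ (centralizer (A : Set G)).relIndex U ∧
    ⁅U, A⁆ ≤ D ∧ (centralizer (U : Set G)).relIndex (A ⊓ o2 F) < (centralizer (U : Set G)).relIndex A

namespace KS

variable {F T U D : Subgroup G}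

theorem xd [Finite G] (h : KS F T U D) : XD T F U where
  S2 := h.syl.2.1
  SX := h.syl.1
  gen := (Dich.oddGen_sup_syl h.syl).ge
  QS := o2_le_syl h.syl
  SU := h.TU
  comm := h.comm
  sq := h.sq
  nU := h.nU

theorem F_W (_ : KS F T U D) : F ≤ normalizer (V U F : Set G) := XD.X_le_normalizer_W

theorem F_W1 (_ : KS F T U D) : F ≤ normalizer (V D F : Set G) := XD.X_le_normalizer_W

theorem V_le_O (h : KS F T U D) : V U F ≤ o2 F := V_le fun p hp => by
  have h1 : cj p U ≤ cj p (o2 F) := cj_mono p h.UO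
  rw [cj_o2_self hp] at h1
  exact h1

theorem V_le_F (h : KS F T U D) : V U F ≤ F := h.V_le_O.trans (ChoiceSit.o2_le F)

theorem isElab (h : KS F T U D) : IsElementaryAbelian 2 (V U F) := elab_of h.comm h.sq

theorem W1_le_comm (h : KS F T U D) : V D F ≤ ⁅V U F, o2 F⁆ := V_le fun p hp => by
  have h1 : D ≤ ⁅V U F, o2 F⁆ := h.DO.trans (commutator_mono XD.U_le_W le_rfl)
  have h2 := cj_mono p h1
  have h3 : cj p ⁅V U F, o2 F⁆ = ⁅V U F, o2 F⁆ :=
    cj_eq_of_mem_normalizer (XD.X_le_normalizer_comm hp)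
  rw [h3] at h2
  exact h2

theorem W1_le [Finite G] (h : KS F T U D) : V D F ≤ V U F := h.W1_le_comm.trans (XD.comm_le_W h.xd)

/-- The count, carried to `⟨D^F⟩`. -/
theorem chain [Finite G] (h : KS F T U D) (B : Subgroup G) (hB : B ≤ o2 F) (hc : ∀ b ∈ B, ∀ b' ∈ B, b * b' = b' * b)
    (h2 : ∀ b ∈ B, b * b = 1) :
    (centralizer (V U F : Set G)).relIndex B ≤ (centralizer (B : Set G)).relIndex (V D F) := by
  induction hn : Nat.card B using Nat.strong_induction_on generalizing B with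
  | _ n IH =>
    by_cases h1 : B ≤ centralizer (V U F : Set G)
    · rw [relIndex_eq_one.2 h1]
      exact Two.pos_relIndex _ _
    -- a moved conjugate
    obtain ⟨y, hy, hyB⟩ : ∃ y ∈ F, ¬ B ≤ centralizer ((cj y U : Subgroup G) : Set G) := by
      by_contra hcon
      push Not at hcon
      apply h1
      rw [le_centralizer_iff]
      exact V_le fun y hy => le_centralizer_iff.1 (hcon y hy)
    set B₁ : Subgroup G := B ⊓ centralizer ((cj y U : Subgroup G) : Set G) with hB₁
    have hlt : B₁ < B := lt_of_le_of_ne inf_le_left fun h3 => hyB (h3 ▸ inf_le_right)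
    have hcard : Nat.card B₁ < n := by
      rw [← hn]
      refine lt_of_le_of_ne (Subgroup.card_le_of_le hlt.le) fun h5 => ?_
      exact hlt.ne (eq_of_le_of_card_ge hlt.le h5.ge)
    have ih := IH _ hcard B₁ (hlt.le.trans hB) (fun b hb b' hb' => hc b (hlt.le hb) b' (hlt.le hb'))
      (fun b hb => h2 b (hlt.le hb)) rfl
    -- the step
    have hst : B₁.relIndex B ≤ (centralizer (B : Set G)).relIndex (cj y D) := by
      have h3 : B₁.relIndex B = (centralizer ((cj y U : Subgroup G) : Set G)).relIndex B := by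
        rw [hB₁, inf_relIndex_left]
      have h4 : (centralizer ((cj y U : Subgroup G) : Set G)).relIndex B =
          (centralizer (U : Set G)).relIndex (cj y⁻¹ B) := by
        rw [← cj_relIndex y⁻¹, cj_centralizer, cj_inv_cj]
      have h5 : (centralizer (B : Set G)).relIndex (cj y D) =
          (centralizer ((cj y⁻¹ B : Subgroup G) : Set G)).relIndex D := by
        rw [← cj_relIndex y⁻¹, cj_centralizer, cj_inv_cj]
      rw [h3, h4, h5]
      refine h.kc _ ?_ ?_ ?_
      · have h6 := cj_mono y⁻¹ hB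
        rwa [cj_o2_self (inv_mem hy)] at h6
      · rintro _ ⟨b, hb, rfl⟩ _ ⟨b', hb', rfl⟩
        rw [← map_mul, hc b hb b' hb', map_mul]
      · rintro _ ⟨b, hb, rfl⟩
        rw [← map_mul, h2 b hb, map_one]
    -- multiply
    set C₀ : Subgroup G := centralizer (B : Set G) ⊓ V D F with hC₀
    set C₁ : Subgroup G := centralizer (B₁ : Set G) ⊓ V D F with hC₁
    have hCC : C₀ ≤ C₁ := inf_le_inf_right _ (centralizer_le hlt.le)
    have hyD : cj y D ≤ C₁ := by
      refine le_inf ?_ (Z_le_V (Z := D) (P := F) hy)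
      have h3 : cj y D ≤ cj y U := cj_mono y (h.DO.trans (h.xd.SU.trans' (o2_le_syl h.syl) |>
        fun h4 => (le_normalizer_iff_commutator_le_left).1 h4))
      refine h3.trans ?_
      rw [le_centralizer_iff]
      exact inf_le_right
    have e1 : (centralizer (B : Set G)).relIndex (V D F) = C₀.relIndex C₁ * C₁.relIndex (V D F) := by
      rw [relIndex_mul_relIndex C₀ C₁ (V D F) hCC inf_le_right, hC₀, inf_relIndex_right]
    have e2 : (centralizer (B₁ : Set G)).relIndex (V D F) = C₁.relIndex (V D F) := by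
      rw [hC₁, inf_relIndex_right]
    have e3 : (centralizer (B : Set G)).relIndex (cj y D) ≤ C₀.relIndex C₁ := by
      have h3 : C₀.relIndex C₁ = (centralizer (B : Set G)).relIndex C₁ := by
        rw [← inf_relIndex_right (centralizer (B : Set G)) C₁, hC₀]
        congr 1
        rw [hC₁, ← inf_assoc, inf_eq_left.2 (centralizer_le hlt.le)]
      rw [h3]
      exact relIndex_le_of_le_right hyD (relIndex_ne _ _)
    have e4 : (centralizer (V U F : Set G)).relIndex B =
        (centralizer (V U F : Set G)).relIndex B₁ * B₁.relIndex B := by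
      have h7 : B ⊓ centralizer (V U F : Set G) ≤ B₁ := inf_le_inf_left _ (centralizer_le (Z_le_V hy))
      rw [← inf_relIndex_right (centralizer (V U F : Set G)) B, ← relIndex_mul_relIndex _ B₁ B (by
        rw [inf_comm]; exact h7) hlt.le]
      congr 1
      rw [← inf_relIndex_right (centralizer (V U F : Set G)) B₁]
      rw [← inf_relIndex_right (centralizer (V U F : Set G) ⊓ B) B₁, inf_assoc, inf_eq_right.2 hlt.le]
    rw [e1, e4, mul_comm]
    rw [e2] at ih
    exact Nat.mul_le_mul (hst.trans e3) ih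

/-- the elements `b` of `W` with `[b, E] ≤ ⟨D^F⟩` -/
def cc [Finite G] (h : KS F T U D) {E : Subgroup G} (_hE : E ≤ F) : Subgroup G where
  carrier := {b | b ∈ V U F ∧ ∀ e ∈ E, b * e * b⁻¹ * e⁻¹ ∈ V D F}
  one_mem' := ⟨one_mem _, fun e _ => by simp [one_mem]⟩
  mul_mem' := by
    rintro a b ⟨ha, ha'⟩ ⟨hb, hb'⟩
    refine ⟨mul_mem ha hb, fun e he => ?_⟩
    have h1 : a * b * e * (a * b)⁻¹ * e⁻¹ = (a * (b * e * b⁻¹ * e⁻¹) * a⁻¹) * (a * e * a⁻¹ * e⁻¹) := by group
    have h2 := h.W1_le (hb' e he)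
    rw [h1, h.comm a ha _ h2, mul_inv_cancel_right]
    exact mul_mem (hb' e he) (ha' e he)
  inv_mem' := by
    rintro a ⟨ha, ha'⟩
    have : a⁻¹ = a := inv_eq_of_mul_eq_one_left (h.sq a ha)
    rw [this]
    exact ⟨ha, ha'⟩

/-- No over-offender on `W / ⟨D^F⟩`. -/
theorem noover [Finite G] (h : KS F T U D) {E K : Subgroup G} (hE : E ≤ F) (hE2 : ∀ e ∈ E, e * e = 1) (hK : K ≤ V U F)
    (hDK : V D F ≤ K) (hKE : ∀ b ∈ K, ∀ e ∈ E, b * e * b⁻¹ * e⁻¹ ∈ V D F) :
    (o2 F).relIndex E ≤ K.relIndex (V U F) := by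
  refine noOv h.syl h.par h.comm h.sq (V D F) (V U F) K E hDK hK le_rfl h.F_W1 h.F_W ?_ hE hE2 hKE
  obtain ⟨c, hc, x, hx, hne⟩ := h.xd.one
  exact ⟨c, hc, x, hx, fun h1 => hne (h.W1_le_comm h1)⟩

/-- **(2)** -/
theorem false [Finite G] (h : KS F T U D) : False := by
  obtain ⟨A, hA, hm, hUA, hlt⟩ := h.off
  set W := V U F with hW
  set W₁ := V D F with hW₁
  have hAF : A ≤ F := hA.2.1
  have hA2 := elab_sq hA.1
  have hAc := elab_comm hA.1
  have hUW : U ≤ W := XD.U_le_W
  have hW₁W : W₁ ≤ W := h.W1_le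
  set B : Subgroup G := A ⊓ centralizer (U : Set G) with hB
  have hBA : B ≤ A := inf_le_left
  set C : Subgroup G := centralizer (A : Set G) ⊓ W with hC
  set CB : Subgroup G := centralizer (B : Set G) ⊓ W with hCB
  have hCW : C ≤ W := inf_le_right
  have hCBW : CB ≤ W := inf_le_right
  have hUCB : U ≤ CB := le_inf (le_centralizer_iff.1 inf_le_right) hUW
  have hCCB : C ≤ CB := inf_le_inf_right _ (centralizer_le hBA)
  -- the subgroups `cc`
  have k1 : ∀ {E : Subgroup G} (hE : E ≤ F), W₁ ≤ h.cc hE := fun {E} hE x hx => by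
    refine ⟨hW₁W hx, fun e he => ?_⟩
    have h1 : x * e * x⁻¹ * e⁻¹ = x * (e * x⁻¹ * e⁻¹) := by group
    rw [h1]
    exact mul_mem hx ((mem_normalizer_iff.1 (h.F_W1 (hE he)) _).1 (inv_mem hx))
  have k2 : ∀ {E : Subgroup G} (hE : E ≤ F), centralizer (E : Set G) ⊓ W ≤ h.cc hE := fun {E} hE x hx => by
    refine ⟨hx.2, fun e he => ?_⟩
    have h1 : x * e * x⁻¹ * e⁻¹ = 1 := by
      rw [← mem_centralizer_iff.1 hx.1 e he]; group
    rw [h1]
    exact one_mem _
  have k3 : U ≤ h.cc hAF := fun x hx => by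
    refine ⟨hUW hx, fun e he => ?_⟩
    have h1 : ⁅x, e⁆ ∈ D := hUA (commutator_mem_commutator hx he)
    rw [commutatorElement_def] at h1
    exact XD.U_le_W h1
  -- the numbers
  set a := (o2 F).relIndex A with ha
  set b := (o2 F).relIndex B with hb
  set n := (centralizer (U : Set G)).relIndex A with hn
  set c := (centralizer (W : Set G)).relIndex (A ⊓ o2 F) with hc
  set c' := (centralizer (W : Set G)).relIndex (B ⊓ o2 F) with hc'
  set x := (centralizer (U : Set G)).relIndex (A ⊓ o2 F) with hx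
  have i2 : a ≤ (C ⊔ W₁ ⊔ U).relIndex W := by
    have hle : C ⊔ W₁ ⊔ U ≤ h.cc hAF := sup_le (sup_le (k2 hAF) (k1 hAF)) k3
    exact h.noover hAF hA2 (sup_le (sup_le hCW hW₁W) hUW) (le_sup_right.trans le_sup_left)
      fun b hb e he => (hle hb).2 e he
  have i4 : b ≤ (CB ⊔ W₁).relIndex W := by
    have hle : CB ⊔ W₁ ≤ h.cc (hBA.trans hAF) := sup_le (k2 _) (k1 _)
    exact h.noover (hBA.trans hAF) (fun e he => hA2 e (hBA he)) (sup_le hCBW hW₁W) le_sup_right
      fun b hb e he => (hle hb).2 e he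
  have i3 : c ≤ C.relIndex (C ⊔ W₁) := by
    have h1 := h.chain (A ⊓ o2 F) inf_le_right (fun b hb b' hb' => hAc b hb.1 b' hb'.1) fun b hb => hA2 b hb.1
    have h2 : (centralizer ((A ⊓ o2 F : Subgroup G) : Set G)).relIndex W₁ ≤ (centralizer (A : Set G)).relIndex W₁ :=
      relIndex_le_of_le_left (centralizer_le inf_le_left) (relIndex_ne _ _)
    have h3 : (centralizer (A : Set G)).relIndex W₁ = C.relIndex W₁ := by
      rw [← inf_relIndex_right (centralizer (A : Set G)) W₁, ← inf_relIndex_right C W₁, hC, inf_assoc,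
        inf_eq_right.2 hW₁W]
    exact (h1.trans h2).trans (h3.le.trans (relIndex_le_of_le_right le_sup_right (relIndex_ne _ _)))
  have i5 : c' ≤ CB.relIndex (CB ⊔ W₁) := by
    have h1 := h.chain (B ⊓ o2 F) inf_le_right (fun b hb b' hb' => hAc b (hBA hb.1) b' (hBA hb'.1))
      fun b hb => hA2 b (hBA hb.1)
    have h2 : (centralizer ((B ⊓ o2 F : Subgroup G) : Set G)).relIndex W₁ ≤ (centralizer (B : Set G)).relIndex W₁ :=
      relIndex_le_of_le_left (centralizer_le inf_le_left) (relIndex_ne _ _)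
    have h3 : (centralizer (B : Set G)).relIndex W₁ = CB.relIndex W₁ := by
      rw [← inf_relIndex_right (centralizer (B : Set G)) W₁, ← inf_relIndex_right CB W₁, hCB, inf_assoc,
        inf_eq_right.2 hW₁W]
    exact (h1.trans h2).trans (h3.le.trans (relIndex_le_of_le_right le_sup_right (relIndex_ne _ _)))
  have i6 : n ≤ C.relIndex (C ⊔ U) := by
    have h3 : (centralizer (A : Set G)).relIndex U = C.relIndex U := by
      rw [← inf_relIndex_right (centralizer (A : Set G)) U, ← inf_relIndex_right C U, hC, inf_assoc,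
        inf_eq_right.2 hUW]
    exact hm.trans (h3.le.trans (relIndex_le_of_le_right le_sup_right (relIndex_ne _ _)))
  -- `C_A(W) ≤ O`
  have hO : A ⊓ centralizer (W : Set G) ≤ o2 F := by
    have h1 := h.noover (E := A ⊓ centralizer (W : Set G)) (K := W) (inf_le_left.trans hAF)
      (fun e he => hA2 e he.1) le_rfl hW₁W (fun b hb e he => by
        have h1 : b * e * b⁻¹ * e⁻¹ = 1 := by
          rw [mem_centralizer_iff.1 he.2 b hb]; group
        rw [h1]
        exact one_mem _)
    rw [relIndex_self] at h1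
    exact relIndex_eq_one.1 (le_antisymm h1 (Two.pos_relIndex _ _))
  have hWU : centralizer (W : Set G) ≤ centralizer (U : Set G) := centralizer_le hUW
  have step : ∀ {H K L : Subgroup G}, L ⊓ H ≤ K → K ≤ L → H.relIndex L = H.relIndex K * K.relIndex L :=
    fun {H K L} h1 h2 => by
      rw [← inf_relIndex_right H L, ← relIndex_mul_relIndex (H ⊓ L) K L (by rwa [inf_comm]) h2]
      congr 1
      rw [← inf_relIndex_right H K, ← inf_relIndex_right (H ⊓ L) K, inf_assoc, inf_eq_right.2 h2]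
  have e1 : (centralizer (W : Set G)).relIndex A = c * a := by
    rw [step (K := A ⊓ o2 F) (le_inf inf_le_left hO) inf_le_left, inf_relIndex_left]
  have e2 : (centralizer (W : Set G)).relIndex A = (centralizer (W : Set G)).relIndex B * n := by
    rw [step (K := B) (inf_le_inf_left _ hWU) inf_le_left, hB, inf_relIndex_left]
  have e3 : (centralizer (W : Set G)).relIndex B = c' * b := by
    rw [step (K := B ⊓ o2 F) (le_inf inf_le_left ((inf_le_inf_right _ hBA).trans hO)) inf_le_left,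
      inf_relIndex_left]
  have e4 : c = c' * x := by
    have h1 : B ⊓ o2 F = A ⊓ o2 F ⊓ centralizer (U : Set G) := by
      rw [hB, inf_assoc, inf_assoc, inf_comm (centralizer (U : Set G))]
    rw [hc, step (K := B ⊓ o2 F) (by rw [h1]; exact inf_le_inf_left _ hWU) (inf_le_inf_right _ hBA), hc', hx]
    congr 1
    rw [h1, inf_relIndex_left]
  have up : C.relIndex W ≤ (centralizer (W : Set G)).relIndex A := by
    have h1 := relIndex_le hA h.isElab h.V_le_F
    rwa [← inf_relIndex_right (centralizer (A : Set G)) W] at h1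
  have d1 : C.relIndex W = C.relIndex (C ⊔ W₁) * ((C ⊔ W₁).relIndex (C ⊔ W₁ ⊔ U) * (C ⊔ W₁ ⊔ U).relIndex W) := by
    rw [relIndex_mul_relIndex _ _ _ le_sup_left (sup_le (sup_le hCW hW₁W) hUW),
      relIndex_mul_relIndex _ _ _ le_sup_left (sup_le hCW hW₁W)]
  have d2 : C.relIndex W = C.relIndex (C ⊔ U) * ((C ⊔ U).relIndex CB *
      (CB.relIndex (CB ⊔ W₁) * (CB ⊔ W₁).relIndex W)) := by
    rw [relIndex_mul_relIndex _ _ _ le_sup_left (sup_le hCBW hW₁W),
      relIndex_mul_relIndex _ _ _ (sup_le hCCB hUCB) hCBW, relIndex_mul_relIndex _ _ _ le_sup_left (sup_le hCW hUW)]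
  have pa : 0 < a := Two.pos_relIndex _ _
  have pb : 0 < b := Two.pos_relIndex _ _
  have pc' : 0 < c' := Two.pos_relIndex _ _
  have pn : 0 < n := Two.pos_relIndex _ _
  have pc : 0 < c := Two.pos_relIndex _ _
  have q1 := Two.pos_relIndex (C ⊔ W₁) (C ⊔ W₁ ⊔ U)
  have q2 := Two.pos_relIndex (C ⊔ U) CB
  -- equality in `d1`
  have r1 : (C ⊔ W₁ ⊔ U).relIndex W = a := by
    refine le_antisymm ?_ i2
    have h1 : C.relIndex (C ⊔ W₁) * ((C ⊔ W₁).relIndex (C ⊔ W₁ ⊔ U) * (C ⊔ W₁ ⊔ U).relIndex W) ≤ c * a := by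
      rw [← d1, ← e1]; exact up
    have h2 : c * (C ⊔ W₁ ⊔ U).relIndex W ≤ c * a := by
      refine le_trans (Nat.mul_le_mul i3 ?_) h1
      exact Nat.le_mul_of_pos_left _ q1
    exact Nat.le_of_mul_le_mul_left h2 pc
  have h0 : C.relIndex (C ⊔ U) * ((C ⊔ U).relIndex CB * (CB.relIndex (CB ⊔ W₁) * (CB ⊔ W₁).relIndex W)) ≤
      n * (c' * b) := by
    rw [← d2, mul_comm n, ← e3, ← e2]; exact up
  have r2 : (CB ⊔ W₁).relIndex W = b := by
    refine le_antisymm ?_ i4
    have h2 : n * (c' * (CB ⊔ W₁).relIndex W) ≤ n * (c' * b) := by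
      refine le_trans (Nat.mul_le_mul i6 ?_) h0
      exact (Nat.mul_le_mul i5 le_rfl).trans (Nat.le_mul_of_pos_left _ q2)
    exact Nat.le_of_mul_le_mul_left (Nat.le_of_mul_le_mul_left h2 pn) pc'
  have r3 : (C ⊔ U).relIndex CB = 1 := by
    refine le_antisymm ?_ q2
    have h2 : (n * (c' * b)) * (C ⊔ U).relIndex CB ≤ (n * (c' * b)) * 1 := by
      rw [mul_one]
      calc n * (c' * b) * (C ⊔ U).relIndex CB = n * ((C ⊔ U).relIndex CB * (c' * b)) := by ring
        _ ≤ _ := Nat.mul_le_mul i6 (Nat.mul_le_mul le_rfl (Nat.mul_le_mul i5 i4))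
        _ ≤ _ := h0
    exact Nat.le_of_mul_le_mul_left h2 (Nat.mul_pos pn (Nat.mul_pos pc' pb))
  have r4 : CB = C ⊔ U := le_antisymm (relIndex_eq_one.1 r3) (sup_le hCCB hUCB)
  have r5 : a = b := by
    rw [← r1, ← r2, r4, sup_assoc, sup_comm W₁ U, ← sup_assoc]
  -- the end
  have h1 : c' * x * a = c' * a * n := by rw [← e4, ← e1, e2, e3, ← r5]
  have h2 : x = n := by
    have h3 : (c' * a) * x = (c' * a) * n := by rw [← h1]; ring
    exact Nat.eq_of_mul_eq_mul_left (Nat.mul_pos pc' pa) h3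
  omega

end KS

end Cfsg.Agent.Omega.OM.FourF

end

section


/-!
# THEOREM 4F (#20067), (2): type `K` in coordinates

If `O = O₂(F)` contains a semilinear element and the elements of `O` act as `Lin l`, `Sem l` with `l` in the prime field,
then `F` normalises `U`:  `One.typeK`.
-/

set_option autoImplicit false

namespace Cfsg.Agent.Omega.OM.FourF

open Subgroup Cfsg Cfsg.Agent.ZN Cfsg.Agent.ZN.ChoiceBase Cfsg.Agent.ZN.ChoiceSit Cfsg.Agent.Omega.NoFF.Basic
  Cfsg.Agent.Omega.OmThm Cfsg.Agent.Omega.OM.Swap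
open Cfsg.Agent.MinSimple.MinParabolic (IsMinPar)
open scoped Pointwise commutatorElement

universe u

section idx

variable {G : Type u} [Group G] {H L : Subgroup G}

theorem relIndex_le_card {X : Type} [Finite X] (f : G → X) (hf : ∀ a ∈ L, ∀ b ∈ L, f a = f b → a⁻¹ * b ∈ H) :
    H.relIndex L ≤ Nat.card X := by
  rw [relIndex, index_eq_card]
  refine Nat.card_le_card_of_injective (fun q : L ⧸ H.subgroupOf L => f (q.out : L)) fun q r hqr => ?_
  have h1 := hf _ q.out.2 _ r.out.2 hqr
  have h2 : (QuotientGroup.mk q.out : L ⧸ H.subgroupOf L) = QuotientGroup.mk r.out := by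
    rw [QuotientGroup.eq, mem_subgroupOf]
    exact h1
  rwa [QuotientGroup.out_eq', QuotientGroup.out_eq'] at h2

theorem card_le_relIndex [Finite G] {X : Type} (g : X → G) (hg : ∀ x, g x ∈ L)
    (h : ∀ x y, (g x)⁻¹ * g y ∈ H → x = y) : Nat.card X ≤ H.relIndex L := by
  rw [relIndex, index_eq_card]
  refine Nat.card_le_card_of_injective (fun x => (QuotientGroup.mk ⟨g x, hg x⟩ : L ⧸ H.subgroupOf L))
    fun x y hxy => ?_
  refine h x y ?_
  have h1 := QuotientGroup.eq.1 hxy
  rwa [mem_subgroupOf] at h1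

end idx

variable {K : Type} [Field K] {G : Type u} [Group G] {F T U Z : Subgroup G} {u : G} {e : G → K × K}

namespace Crd

/-- `{v | (e v).2 ∈ {0, 1}}` -/
def DD (h : Crd K T U Z u e) : Subgroup G where
  carrier := {v | v ∈ U ∧ (e v).2 ^ 2 = (e v).2}
  one_mem' := ⟨one_mem _, by rw [h.e_one]; simp⟩
  mul_mem' := by
    rintro a b ⟨ha, ha'⟩ ⟨hb, hb'⟩
    refine ⟨mul_mem ha hb, ?_⟩
    rw [h.mul a ha b hb, Prod.snd_add, sq_add h.cardK, ha', hb']
  inv_mem' := by
    rintro a ⟨ha, ha'⟩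
    have : a⁻¹ = a := inv_eq_of_mul_eq_one_left (h.U2 a ha)
    rw [this]
    exact ⟨ha, ha'⟩

theorem inv_eq (h : Crd K T U Z u e) {v : G} (hv : v ∈ U) : v⁻¹ = v := inv_eq_of_mul_eq_one_left (h.U2 v hv)

theorem mem_DD (h : Crd K T U Z u e) {v : G} : v ∈ h.DD ↔ v ∈ U ∧ (e v).2 ^ 2 = (e v).2 := Iff.rfl

theorem Z_le_DD (h : Crd K T U Z u e) : Z ≤ h.DD := fun z hz => by
  refine ⟨h.ZU hz, ?_⟩
  rw [(h.memZ z (h.ZU hz)).1 hz]
  simp

/-- the difference of two vectors -/
theorem e_diff (h : Crd K T U Z u e) {v w : G} (hv : v ∈ U) (hw : w ∈ U) : e (v⁻¹ * w) = e v + e w := by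
  rw [h.inv_eq hv, h.mul v hv w hw]

theorem ne_of_w (h : Crd K T U Z u e) {w : K} (hw : w ^ 2 = w + 1) : w ^ 2 ≠ w := by
  intro h1
  rw [hw] at h1
  exact one_ne_zero (add_eq_left.1 h1)

/-- **the count** -/
theorem count [Finite G] (h : Crd K T U Z u e) {O : Subgroup G} (hO : O ≤ T)
    (hB : ∀ t ∈ O, ∀ l, Lin e U l t ∨ Sem e U l t → l ^ 2 = l) {B : Subgroup G} (hBO : B ≤ O) :
    (centralizer (U : Set G)).relIndex B ≤ (centralizer (B : Set G)).relIndex h.DD := by
  classical
  obtain ⟨w, hw⟩ := exists_w h.cardK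
  have hBT : B ≤ T := hBO.trans hO
  by_cases h1 : B ≤ centralizer (U : Set G)
  · rw [relIndex_eq_one.2 h1]
    exact Two.pos_relIndex _ _
  -- two elements of the same type
  let f : G → Bool × Bool := fun t => (decide (∃ l, Sem e U l t), decide (Lin e U 0 t ∨ Sem e U 0 t))
  have h01 : ∀ b ∈ B, ∀ l, Lin e U l b ∨ Sem e U l b → l = 0 ∨ l = 1 := fun b hb l hl =>
    eq_of_sq_eq l (hB b (hBO hb) l hl)
  have hf : ∀ a ∈ B, ∀ b ∈ B, f a = f b → a⁻¹ * b ∈ centralizer (U : Set G) := by
    intro a ha b hb hab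
    obtain ⟨e1, e2⟩ := Prod.ext_iff.1 hab
    simp only [f, decide_eq_decide] at e1 e2
    obtain ⟨l, hl⟩ := h.act a (hBT ha)
    obtain ⟨m, hm⟩ := h.act b (hBT hb)
    rcases hl with hl | hl <;> rcases hm with hm | hm
    · have h3 : l = m := by
        rcases h01 a ha l (Or.inl hl) with h4 | h4 <;> rcases h01 b hb m (Or.inl hm) with h5 | h5
        · rw [h4, h5]
        · rcases e2.1 (Or.inl (h4 ▸ hl)) with h6 | h6
          · exact absurd ((h.uniq_L hm h6).symm.trans h5) (by simp)
          · exact (h.not_LS hm h6).elim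
        · rcases e2.2 (Or.inl (h5 ▸ hm)) with h6 | h6
          · exact absurd ((h.uniq_L hl h6).symm.trans h4) (by simp)
          · exact (h.not_LS hl h6).elim
        · rw [h4, h5]
      exact h.LL_cent (hBT ha) (hBT hb) hl (h3 ▸ hm)
    · obtain ⟨n, hn⟩ := e1.2 ⟨m, hm⟩
      exact (h.not_LS hl hn).elim
    · obtain ⟨n, hn⟩ := e1.1 ⟨l, hl⟩
      exact (h.not_LS hm hn).elim
    · have h3 : l = m := by
        rcases h01 a ha l (Or.inr hl) with h4 | h4 <;> rcases h01 b hb m (Or.inr hm) with h5 | h5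
        · rw [h4, h5]
        · rcases e2.1 (Or.inr (h4 ▸ hl)) with h6 | h6
          · exact (h.not_LS h6 hm).elim
          · exact absurd ((h.uniq_S hm h6).symm.trans h5) (by simp)
        · rcases e2.2 (Or.inr (h5 ▸ hm)) with h6 | h6
          · exact (h.not_LS h6 hl).elim
          · exact absurd ((h.uniq_S hl h6).symm.trans h4) (by simp)
        · rw [h4, h5]
      exact h.SS_cent (hBT ha) (hBT hb) hl (h3 ▸ hm)
  by_cases h2 : ∃ s ∈ B, ∃ l, Sem e U l s
  · obtain ⟨s, hs, l, hl⟩ := h2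
    by_cases h3 : ∃ c ∈ B, ∃ m, m ≠ 0 ∧ Lin e U m c
    · obtain ⟨c, hc, m, hm0, hm⟩ := h3
      have c1 : (centralizer (U : Set G)).relIndex B ≤ 4 := by
        have := relIndex_le_card f hf
        simpa using this
      have c2 : 4 ≤ (centralizer (B : Set G)).relIndex h.DD := by
        choose g hgU hge using fun p : Bool × Bool => h.surj (if p.1 then w else 0, if p.2 then 1 else 0)
        have := card_le_relIndex (H := centralizer (B : Set G)) (L := h.DD) g (fun p => by
          refine ⟨hgU p, ?_⟩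
          rw [hge p]
          rcases p with ⟨i, j⟩
          cases j <;> simp) (fun p q hpq => by
          have hU : (g p)⁻¹ * g q ∈ U := mul_mem (inv_mem (hgU p)) (hgU q)
          have k1 := (h.fix_L (hBT hc) hm hm0 hU).1 (mem_centralizer_iff.1 hpq c hc)
          have k2 := (h.fix_S (hBT hs) hl k1).1 (mem_centralizer_iff.1 hpq s hs)
          have k3 := (h.memZ _ hU).1 k1
          rw [h.e_diff (hgU p) (hgU q), hge, hge] at k2 k3
          rcases p with ⟨i, j⟩
          rcases q with ⟨i', j'⟩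
          simp only [Prod.fst_add, Prod.snd_add] at k2 k3
          have hj : j = j' := by
            cases j <;> cases j' <;> simp at k3 ⊢
          have hi : i = i' := by
            cases i <;> cases i' <;> simp at k2 ⊢
            · exact h.ne_of_w hw k2
            · exact h.ne_of_w hw k2
          rw [hi, hj])
        simpa using this
      exact c1.trans c2
    · -- no linear elements
      push Not at h3
      have c1 : (centralizer (U : Set G)).relIndex B ≤ 2 := by
        have := relIndex_le_card (H := centralizer (U : Set G)) (L := B)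
          (fun t => decide (∃ l, Sem e U l t)) (fun a ha b hb hab => by
          simp only [decide_eq_decide] at hab
          have hab' : a⁻¹ * b ∈ B := mul_mem (inv_mem ha) hb
          obtain ⟨n, hn⟩ := h.act _ (hBT hab')
          rcases hn with hn | hn
          · by_cases hn0 : n = 0
            · rw [hn0] at hn
              exact (h.lin_zero (hBT hab')).1 hn
            · exact (h3 _ hab' n hn0 hn).elim
          · exfalso
            have k0 : a * (a⁻¹ * b) = b := by group
            by_cases hS : ∃ l, Sem e U l a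
            · obtain ⟨l₁, hl₁⟩ := hS
              obtain ⟨l₂, hl₂⟩ := hab.1 ⟨l₁, hl₁⟩
              have k1 := h.mul_SS hl₁ hn (hBT hab')
              rw [k0] at k1
              exact h.not_LS k1 hl₂
            · obtain ⟨l₁, hl₁⟩ := h.act a (hBT ha)
              rcases hl₁ with hl₁ | hl₁
              · have k1 := h.mul_LS hl₁ hn (hBT hab')
                rw [k0] at k1
                exact hS (hab.2 ⟨_, k1⟩)
              · exact hS ⟨_, hl₁⟩)
        simpa using this
      have c2 : 2 ≤ (centralizer (B : Set G)).relIndex h.DD := by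
        choose g hgU hge using fun p : Bool => h.surj (if p then w else 0, 0)
        have := card_le_relIndex (H := centralizer (B : Set G)) (L := h.DD) g (fun p => by
          refine ⟨hgU p, ?_⟩
          rw [hge p]
          simp) (fun p q hpq => by
          have hU : (g p)⁻¹ * g q ∈ U := mul_mem (inv_mem (hgU p)) (hgU q)
          have k1 : (g p)⁻¹ * g q ∈ Z := by
            rw [h.memZ _ hU, h.e_diff (hgU p) (hgU q), hge, hge]
            simp
          have k2 := (h.fix_S (hBT hs) hl k1).1 (mem_centralizer_iff.1 hpq s hs)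
          rw [h.e_diff (hgU p) (hgU q), hge, hge] at k2
          simp only [Prod.fst_add] at k2
          cases p <;> cases q <;> simp at k2 ⊢
          · exact h.ne_of_w hw k2
          · exact h.ne_of_w hw k2)
        simpa using this
      exact c1.trans c2
  · -- all elements are linear
    push Not at h2
    obtain ⟨c, hc, m, hm0, hm⟩ : ∃ c ∈ B, ∃ m, m ≠ 0 ∧ Lin e U m c := by
      by_contra hcon
      push Not at hcon
      apply h1
      intro b hb
      obtain ⟨l, hl⟩ := h.act b (hBT hb)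
      rcases hl with hl | hl
      · by_cases hl0 : l = 0
        · rw [hl0] at hl
          exact (h.lin_zero (hBT hb)).1 hl
        · exact (hcon b hb l hl0 hl).elim
      · exact (h2 b hb l hl).elim
    have c1 : (centralizer (U : Set G)).relIndex B ≤ 2 := by
      have := relIndex_le_card (H := centralizer (U : Set G)) (L := B)
        (fun t => decide (Lin e U 0 t ∨ Sem e U 0 t)) (fun a ha b hb hab => by
        refine hf a ha b hb ?_
        simp only [f]
        refine Prod.ext ?_ hab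
        simp only [decide_eq_decide]
        exact ⟨fun ⟨l, hl⟩ => (h2 a ha l hl).elim, fun ⟨l, hl⟩ => (h2 b hb l hl).elim⟩)
      simpa using this
    have c2 : 2 ≤ (centralizer (B : Set G)).relIndex h.DD := by
      choose g hgU hge using fun p : Bool => h.surj (0, if p then 1 else 0)
      have := card_le_relIndex (H := centralizer (B : Set G)) (L := h.DD) g (fun p => by
        refine ⟨hgU p, ?_⟩
        rw [hge p]
        cases p <;> simp) (fun p q hpq => by
        have hU : (g p)⁻¹ * g q ∈ U := mul_mem (inv_mem (hgU p)) (hgU q)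
        have k1 := (h.fix_L (hBT hc) hm hm0 hU).1 (mem_centralizer_iff.1 hpq c hc)
        have k3 := (h.memZ _ hU).1 k1
        rw [h.e_diff (hgU p) (hgU q), hge, hge] at k3
        simp only [Prod.snd_add] at k3
        cases p <;> cases q <;> simp at k3 ⊢)
      simpa using this
    exact c1.trans c2

end Crd

namespace One

theorem F_cj (h : One K F T U Z u e) {A : Subgroup G} (hA : A ∈ AA T) (hne : ¬ A ≤ centralizer (U : Set G)) :
    (∀ a ∈ A, ∃ l, Lin e U l a) ∧ ∀ l : K, ∃ a ∈ A, Lin e U l a :=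
  (h.full A hA).resolve_left hne

theorem O_le [Finite G] (h : One K F T U Z u e) : o2 F ≤ T := o2_le_syl h.syl

/-- `O` contains `Lin 1` if it contains a semilinear element -/
theorem exists_lin_one [Finite G] (h : One K F T U Z u e) (hs : ∃ s ∈ o2 F, ∃ l, Sem e U l s) : ∃ c ∈ o2 F, Lin e U 1 c := by
  obtain ⟨s, hs, l, hl⟩ := hs
  obtain ⟨w, hw⟩ := exists_w h.cardK
  obtain ⟨A, hA, hne⟩ := h.ex
  obtain ⟨a, ha, haw⟩ := (h.F_cj hA hne).2 w
  have haT : a ∈ T := hA.2.1 ha
  have hsT : s ∈ T := h.O_le hs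
  have hc : s * a * s⁻¹ * a⁻¹ ∈ o2 F := by
    have h1 : s * a * s⁻¹ * a⁻¹ = s * (a * s⁻¹ * a⁻¹) := by group
    rw [h1]
    exact mul_mem hs ((mem_normalizer_iff.1 (ChoiceSit.le_normalizer_o2 F (h.syl.1 haT)) _).1 (inv_mem hs))
  refine ⟨_, hc, ?_⟩
  have k0 : s * a * s⁻¹ * a⁻¹ * (a * s) = s * a := by group
  have k1 := h.mul_LS haw hl hsT
  have k2 := h.mul_SL hl haw haT
  obtain ⟨m, hm | hm⟩ := h.act _ (h.O_le hc)
  · have k3 := h.mul_LS hm k1 (mul_mem haT hsT)
    rw [k0] at k3
    have k4 := h.uniq_S k3 k2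
    have k5 : m = 1 := by linear_combination k4 + hw
    rwa [k5] at hm
  · have k3 := h.mul_SS hm k1 (mul_mem haT hsT)
    rw [k0] at k3
    exact (h.not_LS k3 k2).elim

theorem comm_mem (h : One K F T U Z u e) {v c : G} (hv : v ∈ U) (hc : c ∈ o2 F) :
    v * (c * v * c⁻¹) ∈ (⁅U, o2 F⁆ : Subgroup G) := by
  have h1 : ⁅v, c⁆ ∈ (⁅U, o2 F⁆ : Subgroup G) := commutator_mem_commutator hv hc
  rw [commutatorElement_def] at h1
  have h2 : v * c * v⁻¹ * c⁻¹ = v * (c * v * c⁻¹) := by
    rw [h.inv_eq hv]; group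
  rwa [h2] at h1

/-- `D ≤ [U, O]` -/
theorem DD_le [Finite G] (h : One K F T U Z u e) (hs : ∃ s ∈ o2 F, ∃ l, Sem e U l s) : h.DD ≤ ⁅U, o2 F⁆ := by
  obtain ⟨c, hc, hc1⟩ := h.exists_lin_one hs
  obtain ⟨s, hs, l, hl⟩ := hs
  obtain ⟨w, hw⟩ := exists_w h.cardK
  have hZ : Z ≤ ⁅U, o2 F⁆ := by
    intro z hz
    obtain ⟨v, hv, e1⟩ := h.surj (0, (e z).1)
    have h1 := h.comm_mem hv hc
    have h2 : v * (c * v * c⁻¹) = z := by
      refine h.eq_of (mul_mem hv (h.cn (h.O_le hc) hv)) (h.ZU hz) ?_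
      rw [h.mul v hv _ (h.cn (h.O_le hc) hv), hc1 v hv, e1]
      refine Prod.ext ?_ ?_
      · simp
      · have h3 := (h.memZ z (h.ZU hz)).1 hz
        rw [h3]
        exact two_eq h.cardK _
    rwa [h2] at h1
  obtain ⟨v₁, hv₁, e1⟩ := h.surj (0, w)
  have h1 := h.comm_mem hv₁ hs
  set n₁ := v₁ * (s * v₁ * s⁻¹) with hn₁
  have hn₁U : n₁ ∈ U := mul_mem hv₁ (h.cn (h.O_le hs) hv₁)
  have e2 : (e n₁).2 = 1 := by
    rw [hn₁, h.mul v₁ hv₁ _ (h.cn (h.O_le hs) hv₁), hl v₁ hv₁, e1]
    simp only [Prod.snd_add]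
    have := two_eq h.cardK w
    linear_combination hw + this
  rintro v ⟨hv, hv2⟩
  rcases eq_of_sq_eq _ hv2 with h3 | h3
  · exact hZ ((h.memZ v hv).2 h3)
  · have h4 : v * n₁ ∈ Z := by
      rw [h.memZ _ (mul_mem hv hn₁U), h.mul v hv n₁ hn₁U, Prod.snd_add, h3, e2]
      exact two_eq h.cardK 1
    have h5 := mul_mem (hZ h4) (inv_mem h1)
    rwa [mul_inv_cancel_right] at h5

/-- **(2)** type `K` -/
theorem typeK [Finite G] (h : One K F T U Z u e) (hs : ∃ s ∈ o2 F, ∃ l, Sem e U l s)
    (hB : ∀ t ∈ o2 F, ∀ l, Lin e U l t ∨ Sem e U l t → l ^ 2 = l) : F ≤ normalizer (U : Set G) := by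
  classical
  by_contra hn
  refine KS.false (F := F) (T := T) (U := U) (D := h.DD)
    { syl := h.syl, par := h.par, TU := h.TU, UO := h.UO, comm := h.comm, sq := h.sq, nU := hn
      DO := h.DD_le hs
      kc := fun B hBO _ _ => h.count h.O_le hB hBO
      off := ?_ }
  obtain ⟨A, hA, hne⟩ := h.ex
  obtain ⟨hL, hfull⟩ := h.F_cj hA hne
  have hAT : A ≤ T := hA.2.1
  have c4 : Nat.card K = 4 := h.cardK
  have := finite_of_card h.cardK
  obtain ⟨a₁, ha₁, hl₁⟩ := hfull 1
  have i1 : (centralizer (U : Set G)).relIndex A ≤ 4 := by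
    have h1 := relIndex_le_card (H := centralizer (U : Set G)) (L := A)
      (fun t => if h' : ∃ l, Lin e U l t then h'.choose else 0) (fun a ha b hb hab => by
      have k1 := (hL a ha).choose_spec
      have k2 := (hL b hb).choose_spec
      simp only [dif_pos (hL a ha), dif_pos (hL b hb)] at hab
      rw [hab] at k1
      exact h.LL_cent (hAT ha) (hAT hb) k1 k2)
    rwa [c4] at h1
  have i2 : 4 ≤ (centralizer (A : Set G)).relIndex U := by
    choose g hgU hge using fun y : K => h.surj (0, y)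
    have h1 := card_le_relIndex (H := centralizer (A : Set G)) (L := U) g hgU (fun x y hxy => by
      have hU : (g x)⁻¹ * g y ∈ U := mul_mem (inv_mem (hgU x)) (hgU y)
      have k1 := (h.fix_L (hAT ha₁) hl₁ one_ne_zero hU).1 (mem_centralizer_iff.1 hxy a₁ ha₁)
      have k3 := (h.memZ _ hU).1 k1
      rw [h.e_diff (hgU x) (hgU y), hge, hge, Prod.snd_add] at k3
      have := two_eq h.cardK y
      linear_combination k3 - this)
    rwa [c4] at h1
  have i3 : 4 ≤ (centralizer (U : Set G)).relIndex A := by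
    choose g hgA hge using hfull
    have h1 := card_le_relIndex (H := centralizer (U : Set G)) (L := A) g hgA (fun x y hxy => by
      have k1 := h.mul_LL (h.inv_L (hAT (hgA x)) (hge x)) (hge y) (hAT (hgA y))
      have k2 := (h.lin_zero (mul_mem (inv_mem (hAT (hgA x))) (hAT (hgA y)))).2 hxy
      have k3 := h.uniq_L k1 k2
      have := two_eq h.cardK y
      linear_combination k3 - this)
    rwa [c4] at h1
  have i4 : (centralizer (U : Set G)).relIndex (A ⊓ o2 F) ≤ 2 := by
    have h1 := relIndex_le_card (H := centralizer (U : Set G)) (L := A ⊓ o2 F)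
      (fun t => decide (Lin e U 0 t)) (fun a ha b hb hab => by
      simp only [decide_eq_decide] at hab
      obtain ⟨l, hl⟩ := hL a ha.1
      obtain ⟨m, hm⟩ := hL b hb.1
      have h3 : l = m := by
        rcases eq_of_sq_eq l (hB a ha.2 l (Or.inl hl)) with h4 | h4 <;>
          rcases eq_of_sq_eq m (hB b hb.2 m (Or.inl hm)) with h5 | h5
        · rw [h4, h5]
        · exact absurd ((h.uniq_L hm (hab.1 (h4 ▸ hl))).symm.trans h5) (by simp)
        · exact absurd ((h.uniq_L hl (hab.2 (h5 ▸ hm))).symm.trans h4) (by simp)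
        · rw [h4, h5]
      exact h.LL_cent (hAT ha.1) (hAT hb.1) hl (h3 ▸ hm))
    simpa using h1
  refine ⟨A, AA_of_syl h.syl hA, i1.trans i2, ?_, by omega⟩
  rw [commutator_le]
  intro v hv a ha
  obtain ⟨l, hl⟩ := hL a ha
  have h1 : ⁅v, a⁆ = v * (a * v * a⁻¹) := by
    rw [commutatorElement_def, h.inv_eq hv]; group
  have hcn := h.cn (hAT ha) hv
  rw [h1]
  refine ⟨mul_mem hv hcn, ?_⟩
  rw [h.mul v hv _ hcn, hl v hv, Prod.snd_add]
  simp only
  rw [two_eq h.cardK]
  simp

end One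

end Cfsg.Agent.Omega.OM.FourF

end
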